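import Groth.Agent.NefH1Lib.Subcurve.GG
import Groth.Agent.AlgSpRegLib.ImageReduced
import Groth.Agent.H0Lib.Field
import Groth.Agent.GenusZeroLib.Mult

/-!
# Subcurves as sets of maximal points; degrees on them
-/

set_option autoImplicit false
set_option linter.style.haveILetI false
set_option linter.unusedSectionVars false
set_option maxHeartbeats 1000000
set_option backward.isDefEq.respectTransparency false
set_option backward.isDefEq.respectTransparency.types false

universe u

open CategoryTheory CategoryTheory.Limits AlgebraicGeometry TopologicalSpace Opposite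
open DevissLib (St gm)
open NefH1Lib.Subcurve

noncomputable section

namespace NefH1Lib

namespace Adj

variable (k : Type u) [Field k] {X : Scheme.{u}} [X.Over (Spec (CommRingCat.of k))]
  [IsProper (X ↘ Spec (CommRingCat.of k))]

/-- The change of the Euler characteristic under a twist. -/
def delta (L G : X.Modules) : ℤ := Curv2.euler k X (CohB1.tensorMod L G) - Curv2.euler k X G

theorem delta_congr (L : X.Modules) {G G' : X.Modules} (e : G ≅ G') : delta k L G = delta k L G' := by
  rw [delta, delta, CurvLib.euler_congr (k := k) e, CurvLib.euler_congr (k := k) (SerreVanLib.tensorCongr L e)]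

theorem delta_add {L : X.Modules} (hL : PicF.IsInvertible L) {S : ShortComplex X.Modules} (hS : S.ShortExact)
    (h1 : Coh.IsCoh S.X₁) (h2 : Coh.IsCoh S.X₂) (h3 : Coh.IsCoh S.X₃) :
    delta k L S.X₂ = delta k L S.X₁ + delta k L S.X₃ := by
  have e1 := CurvLib.euler_add_of_isCoh (k := k) hS h1 h2 h3
  have e2 := CurvLib.euler_add_of_isCoh (k := k) (HilbPolyLib.shortExact_tensor hL hS)
    (HilbPolyLib.isCoh_tensor hL h1) (HilbPolyLib.isCoh_tensor hL h2) (HilbPolyLib.isCoh_tensor hL h3)
  change Curv2.euler k X (CohB1.tensorMod L S.X₂) = Curv2.euler k X (CohB1.tensorMod L S.X₁) +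
    Curv2.euler k X (CohB1.tensorMod L S.X₃) at e2
  rw [delta, delta, delta]
  omega

theorem euler_tensor_of_dim_zero {L : X.Modules} (hL : PicF.IsInvertible L) {G : X.Modules} (hG : Coh.IsCoh G)
    (hd : topologicalKrullDim (CohB1.support G) ≤ 0) :
    Curv2.euler k X (CohB1.tensorMod L G) = Curv2.euler k X G := by
  haveI := CurvLib.isNoetherian k (X := X)
  refine (CurvLib.euler_congr (k := k) (KFlatLib.tensSwap G L)).trans ?_
  refine (CurvLib.euler_tensor_locFree_of_dim_zero (k := k) hG hd (CurvLib.locFree_of_isInvertible hL)).trans ?_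
  rw [Nat.cast_one, one_mul]

theorem delta_eq_zero {L : X.Modules} (hL : PicF.IsInvertible L) {G : X.Modules} (hG : Coh.IsCoh G)
    (hd : topologicalKrullDim (CohB1.support G) ≤ 0) : delta k L G = 0 := by
  rw [delta, euler_tensor_of_dim_zero k hL hG hd, sub_self]

theorem euler_quot_unit (L : X.Modules) (J : X.IdealSheafData) :
    delta k L (ClSub.quotMod J) =
      Curv2.euler k X (CohB1.tensorMod L (ClSub.quotMod J)) - Curv2.euler k X (ClSub.quotMod J) := rfl

/-- Degrees on a closed subscheme. -/
theorem deg_subscheme {L : X.Modules} (hL : PicF.IsInvertible L) (J : X.IdealSheafData) :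
    @Curv2.deg k _ J.subscheme ⟨J.subschemeι ≫ (X ↘ (Spec (CommRingCat.of k)))⟩
      ((Scheme.Modules.pullback J.subschemeι).obj L) 1 = delta k L (ClSub.quotMod J) := by
  letI : J.subscheme.Over (Spec (CommRingCat.of k)) := ⟨J.subschemeι ≫ (X ↘ Spec (CommRingCat.of k))⟩
  obtain ⟨eP, eO⟩ := euler_pullback k J.subschemeι rfl hL
  rw [Scheme.IdealSheafData.ker_subschemeι] at eP eO
  rw [Curv2.deg, eP, eO, delta]
  push_cast
  ring

/-- Degrees on the curve. -/
theorem deg_eq_delta (L : X.Modules) : Curv2.deg k X L 1 = delta k L (Coh.structureModule X) := by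
  rw [Curv2.deg, delta, CurvLib.euler_congr (k := k)
    (KFlatLib.tensSwap (Coh.structureModule X) L ≪≫ KFlatLib.tensUnitIso L :
      CohB1.tensorMod L (Coh.structureModule X) ≅ L)]
  push_cast
  ring

section Reduced

variable [IsReduced X]

omit [X.Over (Spec (CommRingCat.of k))] [IsProper (X ↘ Spec (CommRingCat.of k))] in
theorem detected_structure : Detected (Coh.structureModule X) := by
  intro V z hz
  refine eq_zero_of_basicOpen_eq_bot (show Γ(X, V) from z) (eq_bot_iff.mpr fun y hy => ?_)
  obtain ⟨η, hη, hsp⟩ := exists_maxPt y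
  have hη' : η ∈ X.basicOpen (show Γ(X, V) from z) := hsp.mem_open (X.basicOpen (show Γ(X, V) from z)).2 hy
  have hu := (X.mem_basicOpen (show Γ(X, V) from z) η (X.basicOpen_le _ hη')).mp hη'
  obtain ⟨W, hW, j, j', hWz⟩ := TopCat.Presheaf.germ_eq (Coh.structureModule X).presheaf η
    (U := V) (V := V) (X.basicOpen_le _ hη') (X.basicOpen_le _ hη') z 0
    ((hz η hη (X.basicOpen_le _ hη')).trans (map_zero _).symm)
  rw [map_zero] at hWz
  have h2 : X.presheaf.map j.op (show Γ(X, V) from z) = 0 := hWz
  have h3 : X.presheaf.germ V η (X.basicOpen_le _ hη') (show Γ(X, V) from z) = 0 := by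
    rw [← TopCat.Presheaf.germ_res_apply X.presheaf j η hW, h2, map_zero]
  rw [h3] at hu
  exact absurd hu not_isUnit_zero

omit [X.Over (Spec (CommRingCat.of k))] [IsProper (X ↘ Spec (CommRingCat.of k))] in
theorem exists_gen_one (η : X) :
    ∃ v : (St η).obj (Coh.structureModule X), ∀ a, ∃ r : X.presheaf.stalk η, r • v = a :=
  ⟨_, ((AmpleLib.one_genOn (X := X) ⊤).genAt (show η ∈ (⊤ : X.Opens) from trivial)).2⟩

omit [X.Over (Spec (CommRingCat.of k))] [IsProper (X ↘ Spec (CommRingCat.of k))] in
theorem exists_gen_quot (J : X.IdealSheafData) (η : X) :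
    ∃ v : (St η).obj (ClSub.quotMod J), ∀ a, ∃ r : X.presheaf.stalk η, r • v = a := by
  obtain ⟨v, hv⟩ := exists_gen_one η
  refine ⟨((St η).map (ClSub.toSubscheme J)).hom v, fun a => ?_⟩
  obtain ⟨b, rfl⟩ := (ModuleCat.epi_iff_surjective ((St η).map (ClSub.toSubscheme J))).mp inferInstance a
  obtain ⟨r, rfl⟩ := hv b
  exact ⟨r, (map_smul _ r v).symm⟩

omit [X.Over (Spec (CommRingCat.of k))] [IsProper (X ↘ Spec (CommRingCat.of k))] in
theorem subsingleton_quot {J : X.IdealSheafData} {x : X} (hx : x ∉ (J.support : Set X)) :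
    Subsingleton ((St x).obj (ClSub.quotMod J)) :=
  not_not.mp fun hs => hx (CurvLib.support_quotMod_subset J hs)

omit [X.Over (Spec (CommRingCat.of k))] [IsProper (X ↘ Spec (CommRingCat.of k))] in
theorem nontrivial_quot {J : X.IdealSheafData} {x : X} (hx : x ∈ (J.support : Set X)) :
    Nontrivial ((St x).obj (ClSub.quotMod J)) :=
  nontrivial_of_ne _ 0 (nontrivial_quotMod_stalk J hx)

omit [X.Over (Spec (CommRingCat.of k))] [IsProper (X ↘ Spec (CommRingCat.of k))] in
theorem notMem_sub {T : Set X} (hT : T.Finite) {η : X} (hη : IsMaxPt η) (hn : η ∉ T) :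
    η ∉ ((sub T).support : Set X) := fun h => hn (mem_of_mem_closure hT hη (support_sub T ▸ h))

omit [X.Over (Spec (CommRingCat.of k))] [IsProper (X ↘ Spec (CommRingCat.of k))] in
theorem mem_sub {T : Set X} {η : X} (hη : η ∈ T) : η ∈ ((sub T).support : Set X) := by
  rw [support_sub]; exact subset_closure hη

omit [X.Over (Spec (CommRingCat.of k))] [IsProper (X ↘ Spec (CommRingCat.of k))] in
/-- At a maximal point of the support the structure sheaf maps injectively. -/
theorem injective_toSub {J : X.IdealSheafData} {η : X} (hη : IsMaxPt η) (hmem : η ∈ (J.support : Set X)) :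
    Function.Injective ((St η).map (ClSub.toSubscheme J)).hom := by
  obtain ⟨v, hv⟩ := exists_gen_one η
  refine injective_of_cyclic (isField_stalk hη) v hv _ fun h0 => ?_
  haveI := nontrivial_quot (X := X) hmem
  obtain ⟨b, hb⟩ := exists_ne (0 : (St η).obj (ClSub.quotMod J))
  obtain ⟨c, rfl⟩ := (ModuleCat.epi_iff_surjective ((St η).map (ClSub.toSubscheme J))).mp inferInstance b
  exact hb (LinearMap.congr_fun h0 c)

omit [X.Over (Spec (CommRingCat.of k))] [IsProper (X ↘ Spec (CommRingCat.of k))] in
theorem mono_idealModι (J : X.IdealSheafData) : Mono (ClSub.idealModι J) :=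
  inferInstanceAs (Mono (kernel.ι (ClSub.toSubscheme J)))

omit [X.Over (Spec (CommRingCat.of k))] [IsProper (X ↘ Spec (CommRingCat.of k))] in
theorem subsingleton_ideal {J : X.IdealSheafData} {η : X} (hη : IsMaxPt η) (hmem : η ∈ (J.support : Set X)) :
    Subsingleton ((St η).obj (ClSub.idealMod J)) := by
  haveI := mono_idealModι J
  refine ⟨fun a b => (ModuleCat.mono_iff_injective ((St η).map (ClSub.idealModι J))).mp inferInstance
    (injective_toSub hη hmem ?_)⟩
  have h : ∀ c, ((St η).map (ClSub.toSubscheme J)).hom (((St η).map (ClSub.idealModι J)).hom c) = 0 := fun c => by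
    rw [← LinearMap.comp_apply, ← ModuleCat.hom_comp, ← Functor.map_comp,
      show ClSub.idealModι J ≫ ClSub.toSubscheme J = 0 from kernel.condition _, Functor.map_zero]
    rfl
  exact (h a).trans (h b).symm

omit [X.Over (Spec (CommRingCat.of k))] [IsProper (X ↘ Spec (CommRingCat.of k))] in
/-- Complementary subcurves have a mono from the ideal of one to the other. -/
theorem mono_psi0 {B T : Set X} (hBf : B.Finite) (hcov : ∀ η : X, IsMaxPt η → η ∈ B ∨ η ∈ T)
    (hdisj : ∀ η ∈ T, η ∉ B) : Mono (psi0 (sub B) T) := by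
  haveI := mono_idealModι (sub B)
  refine mono_of_detected _ (detected_of_mono (ClSub.idealModι (sub B)) detected_structure) fun η hη => ?_
  by_cases hηB : η ∈ B
  · haveI := subsingleton_ideal hη (mem_sub hηB)
    exact fun a b _ => Subsingleton.elim a b
  · have hηT := (hcov η hη).resolve_left hηB
    rw [psi0, Functor.map_comp, ModuleCat.hom_comp]
    exact (injective_toSub hη (mem_sub hηT)).comp
      ((ModuleCat.mono_iff_injective ((St η).map (ClSub.idealModι (sub B)))).mp inferInstance)

include k in
theorem detected_quot {T : Set X} (hT : T.Finite) (hTm : ∀ η ∈ T, IsMaxPt η) : Detected (ClSub.quotMod (sub T)) :=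
  detected_of_iso ((KFlatLib.tensUnitIso (ClSub.quotMod (sub T))).symm)
    (detected_tB (k := k) CurvLib.isInvertible_structureModule T hT hTm)

/-- Degrees add up over disjoint sets of components. -/
theorem delta_union (hd : topologicalKrullDim X ≤ 1) {L : X.Modules} (hL : PicF.IsInvertible L) {A B : Set X}
    (hAm : ∀ η ∈ A, IsMaxPt η) (hBm : ∀ η ∈ B, IsMaxPt η) (hdisj : ∀ η ∈ A, η ∉ B) :
    delta k L (ClSub.quotMod (sub (A ∪ B))) =
      delta k L (ClSub.quotMod (sub A)) + delta k L (ClSub.quotMod (sub B)) := by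
  haveI := CurvLib.isNoetherian k (X := X)
  have hAf : A.Finite := finite_maxPts.subset hAm
  have hBf : B.Finite := finite_maxPts.subset hBm
  have hUm : ∀ η ∈ A ∪ B, IsMaxPt η := fun η h => h.elim (hAm η) (hBm η)
  have hle : ∀ {S : Set X}, S ⊆ A ∪ B → sub (A ∪ B) ≤ sub S := fun {S} hS =>
    (Scheme.IdealSheafData.le_support_iff_le_vanishingIdeal).mp (by
      intro a ha
      show a ∈ ((sub (A ∪ B)).support : Set X)
      rw [support_sub]
      exact closure_mono hS ha)
  obtain ⟨r, hr, hre⟩ := exists_quot_map (hle (Set.subset_union_left (s := A) (t := B)))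
  obtain ⟨q, hq, hqe⟩ := exists_quot_map (hle (Set.subset_union_right (s := A) (t := B)))
  haveI := hre
  haveI := hqe
  have hQ : ∀ S : Set X, Coh.IsCoh (ClSub.quotMod (sub S)) := fun S => CurvLib.isCoh_quotMod _
  have hK : Coh.IsCoh (kernel r) := QCohLib.isCoh_kernel r (hQ _) (hQ A).1
  have hinj : ∀ (S : Set X) (p : ClSub.quotMod (sub (A ∪ B)) ⟶ ClSub.quotMod (sub S)) [Epi p] (η : X),
      IsMaxPt η → η ∈ S → Function.Injective ((St η).map p).hom := by
    intro S p _ η hη hS
    obtain ⟨v, hv⟩ := exists_gen_quot (sub (A ∪ B)) η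
    refine injective_of_cyclic (isField_stalk hη) v hv _ fun h0 => ?_
    haveI := nontrivial_quot (X := X) (mem_sub hS)
    obtain ⟨b, hb⟩ := exists_ne (0 : (St η).obj (ClSub.quotMod (sub S)))
    obtain ⟨c, rfl⟩ := (ModuleCat.epi_iff_surjective ((St η).map p)).mp inferInstance b
    exact hb (LinearMap.congr_fun h0 c)
  have hker : ∀ (η : X) a, ((St η).map r).hom (((St η).map (kernel.ι r)).hom a) = 0 := fun η a => by
    rw [← LinearMap.comp_apply, ← ModuleCat.hom_comp, ← Functor.map_comp, kernel.condition, Functor.map_zero]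
    rfl
  let c := kernel.ι r ≫ q
  have hKinj : ∀ η, Function.Injective ((St η).map (kernel.ι r)).hom := fun η =>
    (ModuleCat.mono_iff_injective ((St η).map (kernel.ι r))).mp inferInstance
  haveI : Mono c := by
    refine mono_of_detected c (detected_of_mono (kernel.ι r) (detected_quot k (hAf.union hBf) hUm)) fun η hη => ?_
    by_cases hηB : η ∈ B
    · rw [Functor.map_comp, ModuleCat.hom_comp]
      exact (hinj B q η hη hηB).comp (hKinj η)
    · intro a b _
      refine hKinj η ?_
      by_cases hηA : η ∈ A
      · exact hinj A r η hη hηA ((hker η a).trans (hker η b).symm)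
      · haveI := subsingleton_quot (notMem_sub (hAf.union hBf) hη (fun h => h.elim hηA hηB))
        exact Subsingleton.elim _ _
  have hC : Coh.IsCoh (cokernel c) := QCohLib.isCoh_cokernel c hK.1 (hQ B)
  have hCd : topologicalKrullDim (CohB1.support (cokernel c)) ≤ 0 := by
    refine dim_support_le_zero hC.2 hd fun η hη hs => ?_
    obtain ⟨z, hz⟩ := (DevissLib.mem_support_iff_nonzero _ η).mp hs
    obtain ⟨b, rfl⟩ := (ModuleCat.epi_iff_surjective ((St η).map (cokernel.π c))).mp inferInstance z
    by_cases hηB : η ∈ B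
    · haveI := subsingleton_quot (notMem_sub hAf hη fun h => hdisj η h hηB)
      obtain ⟨b', rfl⟩ := (ModuleCat.epi_iff_surjective ((St η).map q)).mp inferInstance b
      let S : ShortComplex X.Modules := ShortComplex.mk (kernel.ι r) r (kernel.condition r)
      haveI : Subsingleton ((S.map (St η)).X₃ : Type u) :=
        show Subsingleton ((St η).obj (ClSub.quotMod (sub A))) from inferInstance
      obtain ⟨w, rfl⟩ := (ShortComplex.moduleCat_exact_iff (S.map (St η))).mp
        ((ShortComplex.exact_of_f_is_kernel S (kernelIsKernel r)).map (St η)) b' (Subsingleton.elim _ _)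
      refine hz ?_
      show ((St η).map (cokernel.π c)).hom (((St η).map q).hom (((St η).map (kernel.ι r)).hom w)) = 0
      rw [← LinearMap.comp_apply, ← ModuleCat.hom_comp, ← Functor.map_comp, ← LinearMap.comp_apply,
        ← ModuleCat.hom_comp, ← Functor.map_comp, ← Category.assoc, cokernel.condition, Functor.map_zero]
      rfl
    · haveI := subsingleton_quot (notMem_sub hBf hη hηB)
      exact hz (by rw [Subsingleton.elim b 0, map_zero])
  have h1 := delta_add k hL (S := ShortComplex.mk (kernel.ι r) r (kernel.condition r))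
    { exact := ShortComplex.exact_of_f_is_kernel _ (kernelIsKernel r)
      mono_f := inferInstanceAs (Mono (kernel.ι r))
      epi_g := hre } hK (hQ _) (hQ A)
  have h2 := delta_add k hL (S := ShortComplex.mk c (cokernel.π c) (cokernel.condition c))
    { exact := ShortComplex.exact_cokernel c
      mono_f := inferInstanceAs (Mono c)
      epi_g := inferInstanceAs (Epi (cokernel.π c)) } hK (hQ B) hC
  rw [delta_eq_zero k hL hC hCd] at h2
  change delta k L (ClSub.quotMod (sub (A ∪ B))) = delta k L (kernel r) + delta k L (ClSub.quotMod (sub A)) at h1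
  change delta k L (ClSub.quotMod (sub B)) = delta k L (kernel r) + 0 at h2
  omega

omit [X.Over (Spec (CommRingCat.of k))] [IsProper (X ↘ Spec (CommRingCat.of k))] in
theorem sub_all : sub {η : X | IsMaxPt η} = (⊥ : X.IdealSheafData) := by
  have h : (⟨closure {η : X | IsMaxPt η}, isClosed_closure⟩ : Closeds X) = ⊤ := by
    refine Closeds.ext (Set.eq_univ_of_forall fun x => ?_)
    obtain ⟨η, hη, hsp⟩ := exists_maxPt x
    exact (closure_mono (Set.singleton_subset_iff.mpr hη)) (specializes_iff_mem_closure.mp hsp)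
  rw [sub, h, Scheme.IdealSheafData.vanishingIdeal_top, Scheme.nilradical_eq_bot]

end Reduced

/-- Global functions on a connected reduced proper scheme are constants. -/
theorem finrank_h0 [IsAlgClosed k] [IsReduced X] [ConnectedSpace X] :
    Module.finrank k (Coh.HH X (Coh.structureModule X) 0) = 1 := by
  haveI := H0Lib.isIso_appTop_of_isAlgClosed (X ↘ (Spec (CommRingCat.of k)))
  letI := GenusZeroLib.kmod k (X := X) (Coh.structureModule X)
  rw [(GenusZeroLib.e0k k (Coh.structureModule X)).finrank_eq]
  let F := (Scheme.ΓSpecIso (CommRingCat.of k)).inv ≫ (X ↘ Spec (CommRingCat.of k)).appTop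
  have hF : Function.Bijective F.hom := ConcreteCategory.bijective_of_isIso F
  refine Eq.trans (LinearEquiv.finrank_eq ?_).symm (Module.finrank_self k)
  refine LinearEquiv.ofBijective
    { toFun := fun r => (show Γ(Coh.structureModule X, ⊤) from F.hom r)
      map_add' := fun a b => map_add F.hom a b
      map_smul' := fun a b => map_mul F.hom a b } hF

end Adj

end NefH1Lib

end
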