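import Groth.Agent.NefH1Lib.Adjunction.Adj
import Groth.Agent.CurveDualModLib.Setup
import Groth.Agent.CurveDualLib.Family
import Groth.Agent.AmpleDevLib.Components
import Groth.Agent.SerreVanLib.CurveAmple

/-!
# Reduced Gorenstein curves: degrees on connected subcurves
-/

set_option autoImplicit false
set_option linter.style.haveILetI false
set_option linter.unusedSectionVars false
set_option maxHeartbeats 1000000
set_option synthInstance.maxHeartbeats 200000
set_option backward.isDefEq.respectTransparency false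
set_option backward.isDefEq.respectTransparency.types false

universe u

open CategoryTheory CategoryTheory.Limits AlgebraicGeometry TopologicalSpace Opposite
open DevissLib (St gm)
open NefH1Lib.Subcurve
open Groth.Agent

attribute [local instance] HasDerivedCategory.standard

noncomputable section

namespace NefH1Lib

namespace Adj

variable (k : Type u) [Field k] {X : Scheme.{u}} [X.Over (Spec (CommRingCat.of k))]

/-- degree on a closed subscheme -/
abbrev dJ (L : X.Modules) (J : X.IdealSheafData) : ℤ :=
  @Curv2.deg k _ J.subscheme ⟨J.subschemeι ≫ (X ↘ (Spec (CommRingCat.of k)))⟩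
    ((Scheme.Modules.pullback J.subschemeι).obj L) 1

/-- genus of a closed subscheme -/
abbrev gJ (J : X.IdealSheafData) : ℕ :=
  @Curv2.genus k _ J.subscheme ⟨J.subschemeι ≫ (X ↘ (Spec (CommRingCat.of k)))⟩

/-- length of the intersection with the complementary subcurve -/
abbrev kJ (J : X.IdealSheafData) : ℕ :=
  Module.finrank k (Coh.HH X (ClSub.quotMod (J ⊔ (Scheme.IdealSheafData.vanishingIdeal
    ⟨closure ((J.support : Set X)ᶜ), isClosed_closure⟩))) 0)

variable [IsProper (X ↘ Spec (CommRingCat.of k))] [IsReduced X]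

include k in
/-- Duality for the dualizing module of a reduced curve. -/
theorem setup [ConnectedSpace X] (hdim : topologicalKrullDim X = 1)
    [DCoh.HasRpush (X ↘ Spec (CommRingCat.of k))] (h : DCoh.RpushPreservesQCoh (X ↘ Spec (CommRingCat.of k)))
    [DCoh.HasShriek (X ↘ Spec (CommRingCat.of k)) h] (OY : DCoh.DQCoh (Spec (CommRingCat.of k)))
    (hOY : Nonempty (OY.obj ≅ DCoh.inD (Spec (CommRingCat.of k)) (Coh.structureModule (Spec (CommRingCat.of k))))) :
    (∀ G : X.Modules, Coh.IsQCoh G → Nonempty ((G ⟶ DCoh.dualizingMod (X ↘ Spec (CommRingCat.of k)) h OY 1) ≃ₗ[k]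
      Module.Dual k (Coh.HH X G 1))) ∧
      Curv2.euler k X (DCoh.dualizingMod (X ↘ Spec (CommRingCat.of k)) h OY 1) =
        - Curv2.euler k X (Coh.structureModule X) := by
  haveI := CurvLib.isNoetherian k (X := X)
  haveI : EnoughInjectives X.Modules := IsGrothendieckAbelian.enoughInjectives.{u}
  haveI : HasExt.{u} X.Modules := hasExt_of_enoughInjectives.{u} X.Modules
  have hd1 : topologicalKrullDim X = ((1 : ℕ) : WithBot ℕ∞) := by simpa using hdim
  obtain ⟨hc, t, ht⟩ := FieldDualLib.exists_duality (k := k) (CurveDualModLib.isCM_of_reduced (X := X) hd1.le) 1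
    (equidim k hdim) hd1 h _ (DCoh.shriekAdj (X ↘ Spec (CommRingCat.of k)) h) OY hOY.some
  let ω := DCoh.dualizingMod (X ↘ Spec (CommRingCat.of k)) h OY 1
  refine ⟨fun G hG => ⟨(singleLin (k := k) G ω).trans
    ((Linear.homCongr k (Iso.refl (DCoh.inD X G)) (CurveDualModLib.zH ω).symm).trans
      ((LinearEquiv.ofBijective (FieldDualLib.pairing t G 0 1 (by norm_num)) (ht G hG 0 1 (by norm_num))).trans
        (FieldDualLib.homEquivHH (k := k) G 1).symm.dualMap))⟩, ?_⟩
  have key : ∀ j m : ℕ, j + m = 1 →
      Module.finrank k (Coh.HH X ω j) = Module.finrank k (Coh.HH X (Coh.structureModule X) m) := fun j m hjm => by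
    haveI := CurvLib.finite_HH (k := k) (DevissLib.isCoh_structureModule X) m
    let e := (FieldDualLib.homEquivHH (k := k) ω j).symm ≪≫ₗ
      LinearEquiv.ofBijective _ (ht (Coh.structureModule X) QCohLib.isQCoh_unit j m (by omega)) ≪≫ₗ
      (FieldDualLib.homEquivHH (k := k) (Coh.structureModule X) m).symm.dualMap
    exact e.finrank_eq.trans Subspace.dual_finrank_eq
  change Curv2.euler k X ω = - Curv2.euler k X (Coh.structureModule X)
  rw [CurvLib.euler_eq_sub (k := k) fun n hn => CurvLib.subsingleton_HH_of_dim_le _ hd1.le n (by omega),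
    CurvLib.euler_eq_sub (k := k) (M := Coh.structureModule X)
      fun n hn => CurvLib.subsingleton_HH_of_dim_le _ hd1.le n (by omega), key 0 1 rfl, key 1 0 rfl]
  ring

include k in
/-- A connected subcurve is given by maximal points, its complement by the others. -/
theorem exists_sub [ConnectedSpace X] (hdim : topologicalKrullDim X = 1) (J : X.IdealSheafData)
    (hr : IsReduced J.subscheme) (hc : ConnectedSpace J.subscheme) (hd : topologicalKrullDim J.subscheme = 1) :
    ∃ T B : Set X, (∀ η ∈ T, IsMaxPt η) ∧ (∀ η ∈ B, IsMaxPt η) ∧ T.Nonempty ∧ (∀ η ∈ T, η ∉ B) ∧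
      (∀ η : X, IsMaxPt η → η ∈ B ∨ η ∈ T) ∧ J = sub T ∧
      Scheme.IdealSheafData.vanishingIdeal ⟨closure ((J.support : Set X)ᶜ), isClosed_closure⟩ = sub B := by
  haveI := CurvLib.isNoetherian k (X := X)
  letI : J.subscheme.Over (Spec (CommRingCat.of k)) := ⟨J.subschemeι ≫ (X ↘ Spec (CommRingCat.of k))⟩
  haveI : IsProper (J.subscheme ↘ Spec (CommRingCat.of k)) :=
    inferInstanceAs (IsProper (J.subschemeι ≫ (X ↘ Spec (CommRingCat.of k))))
  haveI := hr
  haveI := hc
  let T : Set X := {η | IsMaxPt η ∧ η ∈ (J.support : Set X)}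
  let B : Set X := {η | IsMaxPt η ∧ η ∉ (J.support : Set X)}
  have hTs : closure T = (J.support : Set X) := by
    refine (closure_minimal (fun η hη => hη.2) J.support.isClosed).antisymm fun x hx => ?_
    obtain ⟨y, rfl⟩ := (J.range_subschemeι.ge hx : x ∈ Set.range J.subschemeι)
    obtain ⟨y', hy', hsp⟩ := exists_maxPt y
    have hcl := equidim k (X := J.subscheme) hd _ (closure_mem_components hy')
    have hmax : IsMaxPt (J.subschemeι y') := by
      intro z hz
      by_contra hne
      have hsub : J.subschemeι '' closure {y'} ⊆ closure {J.subschemeι y'} :=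
        (image_closure_subset_closure_image J.subschemeι.continuous).trans (by rw [Set.image_singleton])
      have h0 : topologicalKrullDim (closure ({J.subschemeι y'} : Set X)) ≤ 0 :=
        CurvLib.dim_le_zero_of_no_maximal hdim.le isClosed_closure fun a ha => by
          obtain ⟨η, hη, hηa⟩ := exists_maxPt a
          refine ⟨η, hηa, fun he => ?_⟩
          subst he
          have h1 : J.subschemeι y' = η := hη _ (specializes_iff_mem_closure.mpr ha)
          rw [h1] at hz hne
          exact hne (hη z hz)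
      let e : closure ({y'} : Set J.subscheme) → closure ({J.subschemeι y'} : Set X) :=
        fun a => ⟨J.subschemeι a, hsub ⟨a, a.2, rfl⟩⟩
      have he : Topology.IsInducing e := Topology.IsInducing.codRestrict
        (J.subschemeι.isClosedEmbedding.isEmbedding.isInducing.comp Topology.IsInducing.subtypeVal)
        (fun a => hsub ⟨a, a.2, rfl⟩)
      have := he.topologicalKrullDim_le.trans h0
      rw [hcl] at this
      exact absurd this (by simp)
    refine specializes_iff_mem_closure.mp (hsp.map J.subschemeι.continuous) |> fun h => ?_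
    exact closure_mono (Set.singleton_subset_iff.mpr
      (show J.subschemeι y' ∈ T from ⟨hmax, J.range_subschemeι.le ⟨y', rfl⟩⟩)) h
  have hBs : closure B = closure ((J.support : Set X)ᶜ) := by
    refine (closure_mono fun η hη => hη.2).antisymm (closure_minimal (fun x hx => ?_) isClosed_closure)
    obtain ⟨η, hη, hsp⟩ := exists_maxPt x
    exact closure_mono (Set.singleton_subset_iff.mpr
      (show η ∈ B from ⟨hη, fun h => hx (hsp.mem_closed J.support.isClosed h)⟩)) (specializes_iff_mem_closure.mp hsp)
  refine ⟨T, B, fun η hη => hη.1, fun η hη => hη.1, ?_, fun η hη hB => hB.2 hη.2, fun η hη => ?_, ?_, ?_⟩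
  · by_contra hT
    rw [Set.not_nonempty_iff_eq_empty] at hT
    rw [hT, closure_empty] at hTs
    exact (hTs ▸ J.range_subschemeι.le ⟨Classical.arbitrary J.subscheme, rfl⟩ :
      J.subschemeι (Classical.arbitrary J.subscheme) ∈ (∅ : Set X))
  · by_cases h : η ∈ (J.support : Set X)
    · exact Or.inr ⟨hη, h⟩
    · exact Or.inl ⟨hη, h⟩
  · rw [AlgSpRegLib.eq_vanishingIdeal_support J]
    exact congrArg _ (Closeds.ext hTs.symm)
  · exact congrArg _ (Closeds.ext hBs.symm)

include k in
/-- Singletons give the irreducible components. -/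
theorem facts_single (hdim : topologicalKrullDim X = 1) [ConnectedSpace X] {η : X} (hη : IsMaxPt η) :
    IsIntegral (sub ({η} : Set X)).subscheme ∧ IsReduced (sub ({η} : Set X)).subscheme ∧
      ConnectedSpace (sub ({η} : Set X)).subscheme ∧ topologicalKrullDim (sub ({η} : Set X)).subscheme = 1 := by
  haveI := AmpleDevLib.isIntegral_vanishingIdeal ⟨closure ({η} : Set X), isClosed_closure⟩
    isIrreducible_singleton.closure
  refine ⟨inferInstance, DevissLib.isReduced_vanishingIdeal' _, inferInstance, ?_⟩
  refine ((sub ({η} : Set X)).subschemeι.isEmbedding.toHomeomorph.trans (Homeomorph.setCongr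
    ((sub ({η} : Set X)).range_subschemeι.trans (support_sub _)))).isHomeomorph.topologicalKrullDim_eq.trans ?_
  simpa using equidim k (X := X) hdim _ (closure_mem_components hη)

theorem finrank_h0_bot_union {B T : Set X} (hB : B = ∅) :
    Module.finrank k (Coh.HH X (ClSub.quotMod (sub B ⊔ sub T)) 0) = 0 := by
  have h : sub B = (⊤ : X.IdealSheafData) := by
    rw [sub, show (⟨closure B, isClosed_closure⟩ : Closeds X) = ⊥ from Closeds.ext (by rw [hB]; simp)]
    exact Scheme.IdealSheafData.vanishingIdeal_bot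
  rw [h, top_sup_eq, finrank_h0_quot_top]

theorem nonempty_quot_all {T : Set X} (hT : ∀ η : X, IsMaxPt η → η ∈ T) :
    Nonempty (Coh.structureModule X ≅ ClSub.quotMod (sub T)) := by
  haveI : Mono (ClSub.toSubscheme (sub T)) :=
    mono_of_detected _ detected_structure fun η hη => injective_toSub hη (mem_sub (hT η hη))
  haveI : IsIso (ClSub.toSubscheme (sub T)) := isIso_of_mono_of_epi _
  exact ⟨asIso (ClSub.toSubscheme (sub T))⟩

/-- Degrees of powers on components. -/
theorem delta_pow (hdim : topologicalKrullDim X = 1) [ConnectedSpace X] {L : X.Modules}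
    (hL : PicF.IsInvertible L) (i : ℕ) {T : Set X} (hTm : ∀ η ∈ T, IsMaxPt η) :
    delta k (CohB1.tensorPow L i) (ClSub.quotMod (sub T)) = (i : ℤ) * delta k L (ClSub.quotMod (sub T)) := by
  haveI := CurvLib.isNoetherian k (X := X)
  have hP := AmpleThLib.tensorPow_isInvertible hL i
  have h0 : ∀ {M : X.Modules}, PicF.IsInvertible M → delta k M (ClSub.quotMod (sub (∅ : Set X))) = 0 := fun hM => by
    refine delta_eq_zero k hM (CurvLib.isCoh_quotMod _) ((dim_mono (CurvLib.support_quotMod_subset _)).trans ?_)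
    rw [support_sub, closure_empty]
    exact topologicalKrullDim_zero_of_discreteTopology _
  induction T, (finite_maxPts.subset hTm : T.Finite) using Set.Finite.induction_on with
  | empty => rw [h0 hP, h0 hL, mul_zero]
  | @insert η S hηS _ ih =>
    have hη := hTm η (Set.mem_insert η S)
    have hS : ∀ a ∈ S, IsMaxPt a := fun a ha => hTm a (Set.mem_insert_of_mem η ha)
    have hsing : ∀ a ∈ ({η} : Set X), IsMaxPt a := fun a ha => ha ▸ hη
    have hdis : ∀ a ∈ ({η} : Set X), a ∉ S := fun a ha => by rw [Set.mem_singleton_iff.mp ha]; exact hηS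
    rw [Set.insert_eq, delta_union k hdim.le hP hsing hS hdis, delta_union k hdim.le hL hsing hS hdis, ih hS,
      mul_add]
    congr 1
    obtain ⟨hint, -, -, hd⟩ := facts_single k hdim hη
    let J := sub ({η} : Set X)
    letI : J.subscheme.Over (Spec (CommRingCat.of k)) := ⟨J.subschemeι ≫ (X ↘ Spec (CommRingCat.of k))⟩
    haveI : IsProper (J.subscheme ↘ Spec (CommRingCat.of k)) :=
      inferInstanceAs (IsProper (J.subschemeι ≫ (X ↘ Spec (CommRingCat.of k))))
    haveI : IsIntegral J.subscheme := hint
    rw [← deg_subscheme k hP J, ← deg_subscheme k hL J]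
    obtain ⟨e⟩ := CurveDualLib.nonempty_pb_tensorPow J.subschemeι L i
    have h1 := SerreVanLib.deg_pow (k := k) hd (AmpleDevLib.isInvertible_pb J.subschemeι hL) i
    rw [Curv2.deg, CurvLib.euler_congr (k := k) e, h1]
    push_cast
    ring

variable [ConnectedSpace X] (hdim : topologicalKrullDim X = 1)

include hdim

theorem deg_pow_sub {L : X.Modules} (hL : PicF.IsInvertible L) (i : ℕ) (J : X.IdealSheafData)
    (hr : IsReduced J.subscheme) (hc : ConnectedSpace J.subscheme) (hd : topologicalKrullDim J.subscheme = 1) :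
    dJ k (CohB1.tensorPow L i) J = (i : ℤ) * dJ k L J := by
  obtain ⟨T, B, hTm, -, -, -, -, rfl, -⟩ := exists_sub k hdim J hr hc hd
  rw [dJ, dJ, deg_subscheme k (AmpleThLib.tensorPow_isInvertible hL i), deg_subscheme k hL,
    delta_pow k hdim hL i hTm]

/-- A proper subcurve of a connected curve meets the rest. -/
theorem kJ_pos_of_compl {T B : Set X} (hTm : ∀ η ∈ T, IsMaxPt η) (hBm : ∀ η ∈ B, IsMaxPt η) (hTne : T.Nonempty)
    (hdisj : ∀ η ∈ T, η ∉ B) (hcov : ∀ η : X, IsMaxPt η → η ∈ B ∨ η ∈ T)
    (hv : Scheme.IdealSheafData.vanishingIdeal ⟨closure (((sub T).support : Set X)ᶜ), isClosed_closure⟩ = sub B)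
    (hB : B ≠ ∅) : 1 ≤ kJ k (sub T) := by
  haveI := CurvLib.isNoetherian k (X := X)
  have hQ := CurvLib.isCoh_quotMod (sub T ⊔ sub B)
  have hu : closure T ∪ closure B = Set.univ := Set.eq_univ_of_forall fun x => by
    obtain ⟨η, hη, hsp⟩ := exists_maxPt x
    rcases hcov η hη with h | h
    · exact Or.inr (closure_mono (Set.singleton_subset_iff.mpr h) (specializes_iff_mem_closure.mp hsp))
    · exact Or.inl (closure_mono (Set.singleton_subset_iff.mpr h) (specializes_iff_mem_closure.mp hsp))
  obtain ⟨x, hx⟩ : (closure T ∩ closure B).Nonempty := by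
    by_contra hn
    rw [Set.not_nonempty_iff_eq_empty] at hn
    have hcl : IsClopen (closure T) := ⟨isClosed_closure, by
      have : closure T = (closure B)ᶜ := Set.Subset.antisymm
        (fun a ha hb => (hn.le ⟨ha, hb⟩ : a ∈ (∅ : Set X)).elim)
        (fun a ha => (hu.ge (Set.mem_univ a)).resolve_right ha)
      rw [this]
      exact isClosed_closure.isOpen_compl⟩
    rcases isClopen_iff.mp hcl with h | h
    · exact (h ▸ (hTne.mono subset_closure) : (∅ : Set X).Nonempty).ne_empty rfl
    · refine hB (Set.eq_empty_of_forall_notMem fun b hb => ?_)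
      exact (hn.le ⟨h.ge (Set.mem_univ b), subset_closure hb⟩ : b ∈ (∅ : Set X))
  have hd0 : topologicalKrullDim (CohB1.support (ClSub.quotMod (sub T ⊔ sub B))) ≤ 0 := by
    refine dim_support_le_zero hQ.2 hdim.le fun η hη hs => ?_
    have h := CurvLib.support_quotMod_subset _ hs
    rw [Scheme.IdealSheafData.support_sup] at h
    exact hdisj η (mem_of_mem_closure (finite_maxPts.subset hTm) hη (support_sub T ▸ h.1))
      (mem_of_mem_closure (finite_maxPts.subset hBm) hη (support_sub B ▸ h.2))
  rw [kJ, hv]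
  by_contra hk
  have h3 := CurvLib.isZero_of_h0 (k := k) hQ hd0 (by omega)
  haveI := nontrivial_quot (X := X) (J := sub T ⊔ sub B) (x := x) (by
    rw [Scheme.IdealSheafData.support_sup]
    exact ⟨(support_sub T).ge hx.1, (support_sub B).ge hx.2⟩)
  exact not_subsingleton ((St x).obj (ClSub.quotMod (sub T ⊔ sub B)))
    (not_not.mp fun hs => by
      have h4 := DevissLib.support_of_isZero h3
      exact (h4 ▸ hs : x ∈ (∅ : Set X)))

/-- A connected subcurve is everything or meets its complement. -/
theorem whole_or_meets (J : X.IdealSheafData) (hr : IsReduced J.subscheme) (hc : ConnectedSpace J.subscheme)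
    (hd : topologicalKrullDim J.subscheme = 1) :
    (gJ k J = Curv2.genus k X ∧ kJ k J = 0 ∧
      ∀ L : X.Modules, PicF.IsInvertible L → dJ k L J = Curv2.deg k X L 1) ∨ 1 ≤ kJ k J := by
  haveI := CurvLib.isNoetherian k (X := X)
  have hd1 : topologicalKrullDim X = ((1 : ℕ) : WithBot ℕ∞) := by simpa using hdim
  obtain ⟨T, B, hTm, hBm, hTne, hdisj, hcov, rfl, hv⟩ := exists_sub k hdim J hr hc hd
  by_cases hB : B = ∅
  · left
    obtain ⟨e⟩ := nonempty_quot_all (T := T) fun η hη => (hcov η hη).resolve_left (by simp [hB])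
    refine ⟨?_, ?_, fun L hL => ?_⟩
    · rw [gJ, (euler_subscheme k hd1.le (sub T)).2]
      exact (CurvLib.hIso (k := k) e 1).finrank_eq.symm
    · rw [kJ, hv, sup_comm]
      exact finrank_h0_bot_union k hB
    · rw [dJ, deg_subscheme k hL, deg_eq_delta, delta_congr k L e]
  · exact Or.inr (kJ_pos_of_compl k hdim hTm hBm hTne hdisj hcov hv hB)

variable [IsAlgClosed k] {ω : X.Modules} (hω : PicF.IsInvertible ω)
  (hdual : ∀ G : X.Modules, Coh.IsQCoh G → Nonempty ((G ⟶ ω) ≃ₗ[k] Module.Dual k (Coh.HH X G 1)))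
  (hχ : Curv2.euler k X ω = - Curv2.euler k X (Coh.structureModule X))

include hω hdual hχ

/-- `deg ω|_Z = 2 g_Z - 2 + k_Z`. -/
theorem deg_dualizing_sub (J : X.IdealSheafData) (hr : IsReduced J.subscheme) (hc : ConnectedSpace J.subscheme)
    (hd : topologicalKrullDim J.subscheme = 1) :
    dJ k ω J = 2 * (gJ k J : ℤ) - 2 + kJ k J := by
  haveI := CurvLib.isNoetherian k (X := X)
  have hd1 : topologicalKrullDim X = ((1 : ℕ) : WithBot ℕ∞) := by simpa using hdim
  obtain ⟨T, B, hTm, hBm, -, hdisj, hcov, rfl, hv⟩ := exists_sub k hdim J hr hc hd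
  obtain ⟨e1, e2⟩ := euler_subscheme k hd1.le (sub T)
  have hh : Module.finrank k (Coh.HH X (ClSub.quotMod (sub T)) 0) = 1 := by
    letI : (sub T).subscheme.Over (Spec (CommRingCat.of k)) :=
      ⟨(sub T).subschemeι ≫ (X ↘ Spec (CommRingCat.of k))⟩
    haveI : IsProper ((sub T).subscheme ↘ Spec (CommRingCat.of k)) :=
      inferInstanceAs (IsProper ((sub T).subschemeι ≫ (X ↘ Spec (CommRingCat.of k))))
    haveI := hr
    haveI := hc
    haveI : Coh.IsQCoh (Coh.structureModule (sub T).subscheme) := QCohLib.isQCoh_unit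
    obtain ⟨hn, -⟩ := PushLinLib.euler_push k (X := (sub T).subscheme) (Y := X) (sub T).subschemeι rfl
      (Coh.structureModule (sub T).subscheme)
    exact (hn 0).symm.trans (finrank_h0 k)
  rw [dJ, gJ, kJ, deg_subscheme k hω, adjunction k hd1 hω hχ hdual hBm hTm hdisj hcov, hv, e2, sup_comm,
    CurvLib.euler_eq_sub (k := k) (M := ClSub.quotMod (sub T))
      fun n hn => CurvLib.subsingleton_HH_of_dim_le _ hd1.le n (by omega), hh]
  push_cast
  ring

/-- `deg ω = 2 g - 2`. -/
theorem deg_dualizing : Curv2.deg k X ω 1 = 2 * (Curv2.genus k X : ℤ) - 2 := by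
  haveI := CurvLib.isNoetherian k (X := X)
  have hd1 : topologicalKrullDim X = ((1 : ℕ) : WithBot ℕ∞) := by simpa using hdim
  rw [Curv2.deg, hχ, CurvLib.euler_eq_sub (k := k) (M := Coh.structureModule X)
      fun n hn => CurvLib.subsingleton_HH_of_dim_le _ hd1.le n (by omega), finrank_h0 k, Curv2.genus]
  push_cast
  ring

omit hω hdual hχ [IsAlgClosed k] in
/-- Nonspeciality from degrees on connected subcurves. -/
theorem subsingleton_h1 {L : X.Modules} (hL : PicF.IsInvertible L)
    (h : ∀ J : X.IdealSheafData, IsReduced J.subscheme → ConnectedSpace J.subscheme →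
      topologicalKrullDim J.subscheme = 1 → 2 * (gJ k J : ℤ) - 2 < dJ k L J) :
    Subsingleton (Coh.HH X L 1) := by
  haveI := CurvLib.isNoetherian k (X := X)
  by_contra hnt
  rw [not_subsingleton_iff_nontrivial] at hnt
  have hd1 : topologicalKrullDim X = ((1 : ℕ) : WithBot ℕ∞) := by simpa using hdim
  haveI := isIso_idealModι_top (X := X)
  let e : CohB1.tensorMod (ClSub.idealMod (⊤ : X.IdealSheafData)) L ≅ L :=
    KFlatLib.tensSwap L _ ≪≫ SerreVanLib.tensorCongr L (asIso (ClSub.idealModι (⊤ : X.IdealSheafData))) ≪≫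
      KFlatLib.tensSwap (Coh.structureModule X) L ≪≫ KFlatLib.tensUnitIso L
  haveI : Nontrivial (Coh.HH X (CohB1.tensorMod (ClSub.idealMod (⊤ : X.IdealSheafData)) L) 1) :=
    (CurvLib.hIso (k := k) e 1).toEquiv.nontrivial_congr.mpr hnt
  have hZ : topologicalKrullDim ((⊤ : X.IdealSheafData).support : Set X) ≤ 0 := by
    haveI : IsEmpty ((⊤ : X.IdealSheafData).support : Set X) :=
      ⟨fun a => (show (a : X) ∈ ((⊥ : Closeds X) : Set X) from a.2)⟩
    exact topologicalKrullDim_zero_of_discreteTopology _
  obtain ⟨J, hJr, hJc, hJd, hle⟩ := exists_subcurve k hdim hL ⊤ hZ inferInstance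
  have h2 := h J hJr hJc hJd
  rw [top_sup_eq, finrank_h0_quot_top, (euler_subscheme k hd1.le J).1] at hle
  rw [gJ, (euler_subscheme k hd1.le J).2, dJ] at h2
  haveI := hJc
  have := h0_quot_pos k J
  omega

omit hω hdual hχ [IsAlgClosed k] in
/-- Ample modules have positive degree on every connected subcurve, at least the number of components. -/
theorem deg_pos_of_ample {L : X.Modules} (hA : CohB1.IsAmple L) (J : X.IdealSheafData) (hr : IsReduced J.subscheme)
    (hc : ConnectedSpace J.subscheme) (hd : topologicalKrullDim J.subscheme = 1) :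
    1 ≤ dJ k L J ∧ (dJ k L J = 1 → IrreducibleSpace J.subscheme) := by
  haveI := CurvLib.isNoetherian k (X := X)
  have hL := hA.1
  obtain ⟨T, B, hTm, -, hTne, -, -, rfl, -⟩ := exists_sub k hdim J hr hc hd
  have h1 : ∀ η, IsMaxPt η → 1 ≤ delta k L (ClSub.quotMod (sub ({η} : Set X))) := fun η hη => by
    obtain ⟨hint, -, -, hd'⟩ := facts_single k hdim hη
    let J := sub ({η} : Set X)
    letI : J.subscheme.Over (Spec (CommRingCat.of k)) := ⟨J.subschemeι ≫ (X ↘ Spec (CommRingCat.of k))⟩
    haveI : IsProper (J.subscheme ↘ Spec (CommRingCat.of k)) :=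
      inferInstanceAs (IsProper (J.subschemeι ≫ (X ↘ Spec (CommRingCat.of k))))
    haveI : IsIntegral J.subscheme := hint
    rw [← deg_subscheme k hL J]
    exact SerreVanLib.deg_pos_of_isAmple (k := k) hd' (AmpleDevLib.isAmple_pb J.subschemeι hL hA)
  have hsum : ∀ S : Set X, (∀ η ∈ S, IsMaxPt η) → S.Nonempty → 1 ≤ delta k L (ClSub.quotMod (sub S)) ∧
      (∀ η ∈ S, S ≠ {η} → 2 ≤ delta k L (ClSub.quotMod (sub S))) := by
    intro S hSm
    induction S, (finite_maxPts.subset hSm : S.Finite) using Set.Finite.induction_on with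
    | empty => exact fun h => absurd rfl h.ne_empty
    | @insert η S hηS _ ih =>
      intro _
      have hη := hSm η (Set.mem_insert η S)
      have hS : ∀ a ∈ S, IsMaxPt a := fun a ha => hSm a (Set.mem_insert_of_mem η ha)
      by_cases hne : S.Nonempty
      · have hu := delta_union k hdim.le hL (A := {η}) (B := S) (fun a ha => ha ▸ hη) hS
          (fun a ha => by rw [Set.mem_singleton_iff.mp ha]; exact hηS)
        rw [← Set.insert_eq] at hu
        have := h1 η hη
        have := (ih hS hne).1
        exact ⟨by omega, fun _ _ _ => by omega⟩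
      · rw [Set.not_nonempty_iff_eq_empty] at hne
        subst hne
        rw [insert_empty_eq]
        exact ⟨h1 η hη, fun a ha hn => absurd (by rw [Set.mem_singleton_iff.mp ha]) hn⟩
  rw [dJ, deg_subscheme k hL]
  refine ⟨(hsum T hTm hTne).1, fun h => ?_⟩
  obtain ⟨η, hη⟩ := hTne
  have hT : T = {η} := by
    by_contra hne
    have := (hsum T hTm ⟨η, hη⟩).2 η hη hne
    omega
  subst hT
  haveI := (facts_single k hdim (hTm η hη)).1
  infer_instance

omit hω hdual hχ [IsAlgClosed k] in
/-- Positive degree on connected subcurves gives ampleness. -/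
theorem isAmple_of_pos {L : X.Modules} (hL : PicF.IsInvertible L)
    (h : ∀ J : X.IdealSheafData, IsReduced J.subscheme → ConnectedSpace J.subscheme →
      topologicalKrullDim J.subscheme = 1 → 0 < dJ k L J) : CohB1.IsAmple L := by
  haveI := CurvLib.isNoetherian k (X := X)
  rw [AmpleDevLib.isAmple_iff_components (X ↘ Spec (CommRingCat.of k)) hL]
  intro Z hZ
  obtain ⟨η, hη⟩ := QuasiSober.sober hZ.1 Z.isClosed
  have hmax : IsMaxPt η := fun y hy => by
    have h1 : closure ({η} : Set X) ⊆ closure {y} :=
      closure_minimal (Set.singleton_subset_iff.mpr (specializes_iff_mem_closure.mp hy)) isClosed_closure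
    rw [hη.def] at h1
    have h2 : closure ({y} : Set X) = (Z : Set X) := (hZ.2 isIrreducible_singleton.closure h1).antisymm h1
    exact ((show IsGenericPoint y (Z : Set X) from h2).eq hη)
  obtain rfl : Z = ⟨closure ({η} : Set X), isClosed_closure⟩ := Closeds.ext hη.def.symm
  obtain ⟨hint, hr, hc, hd⟩ := facts_single k hdim hmax
  let J := sub ({η} : Set X)
  letI : J.subscheme.Over (Spec (CommRingCat.of k)) := ⟨J.subschemeι ≫ (X ↘ Spec (CommRingCat.of k))⟩
  haveI : IsProper (J.subscheme ↘ Spec (CommRingCat.of k)) :=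
    inferInstanceAs (IsProper (J.subschemeι ≫ (X ↘ Spec (CommRingCat.of k))))
  haveI : IsIntegral J.subscheme := hint
  exact SerreVanLib.isAmple_of_deg_pos (k := k) hd (AmpleDevLib.isInvertible_pb J.subschemeι hL) (h J hr hc hd)

end Adj

end NefH1Lib

end
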