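import Groth.Agent.NefH1Lib.Adjunction.Basic

/-!
# The adjunction formula for subcurves
-/

set_option autoImplicit false
set_option linter.style.haveILetI false
set_option linter.unusedSectionVars false
set_option maxHeartbeats 1000000
set_option backward.isDefEq.respectTransparency false
set_option backward.isDefEq.respectTransparency.types false

universe u

open CategoryTheory CategoryTheory.Limits AlgebraicGeometry TopologicalSpace Opposite
open DevissLib (St gm)
open NefH1Lib.Subcurve

noncomputable section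

namespace NefH1Lib

namespace Adj

variable (k : Type u) [Field k] {X : Scheme.{u}} [X.Over (Spec (CommRingCat.of k))]
  [IsProper (X ↘ Spec (CommRingCat.of k))] [IsReduced X]

omit [X.Over (Spec (CommRingCat.of k))] [IsProper (X ↘ Spec (CommRingCat.of k))] in
theorem isIso_tP {ω : X.Modules} {B T : Set X} (hm : Mono (psi0 (sub B) T)) : IsIso (tP (sub B) T ω) := by
  haveI := hm
  haveI : Mono (Abelian.factorThruImage (psi0 (sub B) T)) :=
    mono_of_mono_fac (Abelian.image.fac (psi0 (sub B) T))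
  haveI : IsIso (Abelian.factorThruImage (psi0 (sub B) T)) := isIso_of_mono_of_epi _
  exact inferInstanceAs (IsIso ((CurvLib.tensorLeft' ω).map (Abelian.factorThruImage (psi0 (sub B) T))))

/-- A function on the subcurve acting by zero on the complementary ideal is zero. -/
theorem eq_zero_of_endo {ω : X.Modules} (hω : PicF.IsInvertible ω) {B T : Set X} (hT : T.Finite)
    (hTm : ∀ η ∈ T, IsMaxPt η) (hB : B.Finite) (hdisj : ∀ η ∈ T, η ∉ B)
    (f : Γ((sub T).subscheme, ⊤))
    (h : ∀ (V : X.Opens) (g : Γ(X, V)), (sub T).subschemeι.app V g = fnRes (sub T) V f →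
      ∀ z : Γ(tN (sub B) T ω, V), g • z = 0) : f = 0 := by
  haveI : IsReduced (sub T).subscheme := DevissLib.isReduced_vanishingIdeal' _
  let i := (sub T).subschemeι
  refine eq_zero_of_germs (sub T) (exists_maxPt_sub T hT hTm) ⊤ f fun y hy htop => ?_
  have hyT : i y ∈ T := mem_of_mem_closure hT hy (support_sub T ▸ (sub T).range_subschemeι.le ⟨y, rfl⟩)
  haveI := nontrivial_tN hω (sub B) T (notMem_sub hB hy (hdisj _ hyT)) hyT
  obtain ⟨a, ha⟩ := exists_ne (0 : (St (i y)).obj (tN (sub B) T ω))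
  obtain ⟨W, hyW, z, rfl⟩ := DevissLib.exists_gm_eq (tN (sub B) T ω) (i y) a
  obtain ⟨U, hU, hyU, -⟩ := exists_isAffineOpen_mem_and_subset (x := i y) (U := ⊤) trivial
  obtain ⟨g, hg⟩ := CurvLib.unitToPush_app_surjective i hU (fnRes (sub T) U f)
  have hgW : i.app (U ⊓ W) (X.presheaf.map (homOfLE inf_le_left).op g) = fnRes (sub T) (U ⊓ W) f := by
    refine Eq.trans ?_ (congrArg ((sub T).subscheme.presheaf.map
      (homOfLE (show i ⁻¹ᵁ (U ⊓ W) ≤ i ⁻¹ᵁ U from fun a ha => ha.1)).op) hg |>.trans ?_)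
    · exact ConcreteCategory.congr_hom (i.naturality (homOfLE (inf_le_left : U ⊓ W ≤ U)).op) g
    · exact AmpleLib.res_res (Coh.structureModule (sub T).subscheme) le_top
        (show i ⁻¹ᵁ (U ⊓ W) ≤ i ⁻¹ᵁ U from fun a ha => ha.1) f
  have h2 := congrArg (gm (tN (sub B) T ω) (i y) (show i y ∈ U ⊓ W from ⟨hyU, hyW⟩))
    (h (U ⊓ W) _ hgW ((tN (sub B) T ω).presheaf.map (homOfLE inf_le_right).op z))
  replace h2 := h2.trans (map_zero ((tN (sub B) T ω).presheaf.germ (U ⊓ W) (i y) ⟨hyU, hyW⟩).hom)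
  have hs : X.presheaf.germ U (i y) hyU g • gm (tN (sub B) T ω) (i y) hyW z = 0 := by
    refine Eq.trans ?_ ((AmpleLib.germ_smul (tN (sub B) T ω)
      (X.presheaf.map (homOfLE (inf_le_left : U ⊓ W ≤ U)).op g)
      ((tN (sub B) T ω).presheaf.map (homOfLE (inf_le_right : U ⊓ W ≤ W)).op z) ⟨hyU, hyW⟩).symm.trans h2)
    rw [TopCat.Presheaf.germ_res_apply]
    congr 1
    exact (DevissLib.gm_map (tN (sub B) T ω) (inf_le_right : U ⊓ W ≤ W) (i y) ⟨hyU, hyW⟩ z).symm
  have hg0 : X.presheaf.germ U (i y) hyU g = 0 := by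
    by_contra hne
    obtain ⟨t, ht⟩ := (isField_stalk hy).mul_inv_cancel hne
    refine ha ?_
    rw [← one_smul (X.presheaf.stalk (i y)) (gm (tN (sub B) T ω) (i y) hyW z), ← ht, mul_comm, mul_smul, hs,
      smul_zero]
  have h3 : (sub T).subscheme.presheaf.germ (i ⁻¹ᵁ U) y hyU (i.app U g) = 0 := by
    rw [← Scheme.Hom.germ_stalkMap_apply, hg0, map_zero]
  have h4 : (sub T).subscheme.presheaf.germ (i ⁻¹ᵁ U) y hyU (fnRes (sub T) U f) = 0 := hg ▸ h3
  exact (TopCat.Presheaf.germ_res_apply (sub T).subscheme.presheaf (homOfLE le_top) y hyU f).symm.trans h4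

/-- The twisted ideal of the complement and the sheaf of functions on a subcurve. -/
theorem defect_le (hdim : topologicalKrullDim X = ((1 : ℕ) : WithBot ℕ∞)) {ω : X.Modules}
    (hω : PicF.IsInvertible ω)
    (hdual : ∀ G : X.Modules, Coh.IsQCoh G → Nonempty ((G ⟶ ω) ≃ₗ[k] Module.Dual k (Coh.HH X G 1)))
    {B T : Set X} (hBf : B.Finite) (hTm : ∀ η ∈ T, IsMaxPt η) (hdisj : ∀ η ∈ T, η ∉ B)
    (hcov : ∀ η : X, IsMaxPt η → η ∈ B ∨ η ∈ T) :
    Curv2.euler k X (CohB1.tensorMod ω (ClSub.idealMod (sub B))) + Curv2.euler k X (ClSub.quotMod (sub T)) ≤ 0 := by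
  haveI := CurvLib.isNoetherian k (X := X)
  haveI : EnoughInjectives X.Modules := IsGrothendieckAbelian.enoughInjectives.{u}
  haveI : HasExt.{u} X.Modules := hasExt_of_enoughInjectives.{u} X.Modules
  have hTf : T.Finite := finite_maxPts.subset hTm
  have hm := mono_psi0 hBf hcov hdisj
  haveI := isIso_tP (ω := ω) hm
  have hωc := CurvLib.isCoh_of_isInvertible hω
  have hOc := CurvLib.isCoh_of_isInvertible (CurvLib.isInvertible_structureModule (X := X))
  have hIc : Coh.IsCoh (ClSub.idealMod (sub B)) := QCohLib.isCoh_kernel _ hOc (CurvLib.isCoh_quotMod _).1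
  have hM : Coh.IsCoh (CohB1.tensorMod ω (ClSub.idealMod (sub B))) := HilbPolyLib.isCoh_tensor hω hIc
  let Q := ClSub.quotMod (sub T)
  have hQ : Coh.IsCoh Q := CurvLib.isCoh_quotMod _
  obtain ⟨EQ⟩ := hdual Q hQ.1
  obtain ⟨EM⟩ := hdual _ hM.1
  haveI := CurvLib.finite_HH (k := k) hM 1
  haveI := CurvLib.finite_HH (k := k) hM 0
  haveI := CurvLib.finite_HH (k := k) hQ 1
  haveI := CurvLib.finite_HH (k := k) hQ 0
  haveI := CurvLib.finite_HH (k := k) hωc 0
  haveI : Module.Finite k (Coh.structureModule X ⟶ ω) := Module.Finite.equiv (homUnit (k := k) ω).symm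
  haveI : Module.Finite k (Q ⟶ ω) := Module.Finite.equiv EQ.symm
  haveI : Module.Finite k (CohB1.tensorMod ω (ClSub.idealMod (sub B)) ⟶ ω) := Module.Finite.equiv EM.symm
  haveI : Mono (SerreVanLib.tmap ω (ClSub.idealModι (sub B))) :=
    (HilbPolyLib.shortExact_tensor hω (CurvLib.idealSeq_shortExact (sub B))).mono_f
  let uI : CohB1.tensorMod ω (Coh.structureModule X) ≅ ω :=
    KFlatLib.tensSwap (Coh.structureModule X) ω ≪≫ KFlatLib.tensUnitIso ω
  let j : CohB1.tensorMod ω (ClSub.idealMod (sub B)) ⟶ ω := SerreVanLib.tmap ω (ClSub.idealModι (sub B)) ≫ uI.hom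
  haveI : Mono j := mono_comp _ _
  -- sections of the twisted ideal are functionals on the subcurve
  have h0le : Module.finrank k (Coh.HH X (CohB1.tensorMod ω (ClSub.idealMod (sub B))) 0) ≤
      Module.finrank k (Coh.HH X Q 1) := by
    let post : (Coh.structureModule X ⟶ CohB1.tensorMod ω (ClSub.idealMod (sub B))) →ₗ[k]
        (Coh.structureModule X ⟶ ω) := Linear.rightComp k _ j
    let pre : (Q ⟶ ω) →ₗ[k] (Coh.structureModule X ⟶ ω) := Linear.leftComp k _ (ClSub.toSubscheme (sub T))
    have hpost : Function.Injective post := fun a b h => (cancel_mono j).mp h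
    have hle : LinearMap.range post ≤ LinearMap.range pre := by
      rintro _ ⟨s, rfl⟩
      haveI : Epi (CurvLib.idealSeq (sub T)).g := (CurvLib.idealSeq_shortExact (sub T)).epi_g
      have hkill : ClSub.idealModι (sub T) ≫ s ≫ j = 0 := by
        refine hom_eq_zero (k := k) (A := ClSub.idealMod (sub T)) hdim.le hωc hdual (QCohLib.isCoh_kernel _ hOc hQ.1) _ fun η hη => ?_
        rcases hcov η hη with hB' | hT'
        · obtain ⟨e⟩ := stalkTens hω (ClSub.idealMod (sub B)) η
          haveI := subsingleton_ideal hη (mem_sub hB')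
          haveI : Subsingleton ((St η).obj (CohB1.tensorMod ω (ClSub.idealMod (sub B)))) := e.toEquiv.subsingleton
          refine LinearMap.ext fun a => ?_
          simp only [Functor.map_comp, ModuleCat.hom_comp, LinearMap.comp_apply]
          rw [Subsingleton.elim (((St η).map s).hom (((St η).map (ClSub.idealModι (sub T))).hom a)) 0, map_zero]
          rfl
        · haveI := subsingleton_ideal hη (mem_sub hT')
          exact LinearMap.ext fun a => by rw [Subsingleton.elim a 0, map_zero, map_zero]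
      exact ⟨(CurvLib.idealSeq_shortExact (sub T)).exact.desc (s ≫ j) hkill,
        (CurvLib.idealSeq_shortExact (sub T)).exact.g_desc _ _⟩
    calc Module.finrank k (Coh.HH X (CohB1.tensorMod ω (ClSub.idealMod (sub B))) 0)
        = Module.finrank k (LinearMap.range post) :=
          (homUnit (k := k) _).finrank_eq.symm.trans (LinearMap.finrank_range_of_inj hpost).symm
      _ ≤ Module.finrank k (LinearMap.range pre) := Submodule.finrank_mono hle
      _ ≤ Module.finrank k (Q ⟶ ω) := LinearMap.finrank_range_le pre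
      _ = _ := EQ.finrank_eq.trans Subspace.dual_finrank_eq
  -- functions on the subcurve act on the twisted ideal
  have h1le : Module.finrank k (Coh.HH X Q 0) ≤
      Module.finrank k (Coh.HH X (CohB1.tensorMod ω (ClSub.idealMod (sub B))) 1) := by
    letI := fnModule k (sub T)
    obtain ⟨A, hA⟩ := exists_endo k hω (sub B) T
    let Φ : Γ((sub T).subscheme, ⊤) →ₗ[k] (CohB1.tensorMod ω (ClSub.idealMod (sub B)) ⟶ ω) :=
      (Linear.leftComp k ω (tP (sub B) T ω)).comp
        ((Linear.rightComp k (tN (sub B) T ω) (inv (tP (sub B) T ω) ≫ j)).comp A)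
    haveI : Mono (inv (tP (sub B) T ω) ≫ j) := mono_comp _ _
    have hΦ : Function.Injective Φ := by
      refine (injective_iff_map_eq_zero Φ).mpr fun f hf => ?_
      have h1 : tP (sub B) T ω ≫ A f ≫ inv (tP (sub B) T ω) ≫ j = 0 := hf
      have h2 : A f = 0 := (cancel_mono (inv (tP (sub B) T ω) ≫ j)).mp
        ((cancel_epi (tP (sub B) T ω)).mp (by rw [h1, zero_comp, comp_zero]))
      exact eq_zero_of_endo hω hTf hTm hBf hdisj f fun V g hg z => by
        rw [← hA f V g hg z, h2]
        rfl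
    have he : Module.finrank k (Coh.HH X Q 0) = Module.finrank k Γ((sub T).subscheme, ⊤) := by
      letI := GenusZeroLib.kmod k (X := X) Q
      refine (GenusZeroLib.e0k k Q).finrank_eq.trans (LinearEquiv.finrank_eq ?_)
      exact { AddEquiv.refl (Γ(Q, ⊤)) with map_smul' := fun c x => rfl }
    rw [he]
    exact (LinearMap.finrank_le_finrank_of_injective hΦ).trans_eq (EM.finrank_eq.trans Subspace.dual_finrank_eq)
  rw [CurvLib.euler_eq_sub (k := k) fun n hn => CurvLib.subsingleton_HH_of_dim_le _ hdim.le n (by omega),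
    CurvLib.euler_eq_sub (k := k) (M := ClSub.quotMod (sub T))
      fun n hn => CurvLib.subsingleton_HH_of_dim_le _ hdim.le n (by omega)]
  simp only [Q] at h0le h1le
  omega

/-- Euler characteristics along the inclusion of the complementary ideal. -/
theorem euler_split (hdim : topologicalKrullDim X ≤ 1) {L : X.Modules} (hL : PicF.IsInvertible L)
    {B T : Set X} (hBf : B.Finite) (hTf : T.Finite) (hdisj : ∀ η ∈ T, η ∉ B)
    (hcov : ∀ η : X, IsMaxPt η → η ∈ B ∨ η ∈ T) :
    Curv2.euler k X (CohB1.tensorMod L (ClSub.quotMod (sub T))) =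
        Curv2.euler k X (CohB1.tensorMod L (ClSub.idealMod (sub B))) +
          Module.finrank k (Coh.HH X (ClSub.quotMod (sub B ⊔ sub T)) 0) ∧
      Curv2.euler k X (ClSub.quotMod (sub T)) = Curv2.euler k X (ClSub.idealMod (sub B)) +
          Module.finrank k (Coh.HH X (ClSub.quotMod (sub B ⊔ sub T)) 0) ∧
      Curv2.euler k X (CohB1.tensorMod L (Coh.structureModule X)) =
        Curv2.euler k X (CohB1.tensorMod L (ClSub.idealMod (sub B))) +
          Curv2.euler k X (CohB1.tensorMod L (ClSub.quotMod (sub B))) ∧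
      Curv2.euler k X (Coh.structureModule X) =
        Curv2.euler k X (ClSub.idealMod (sub B)) + Curv2.euler k X (ClSub.quotMod (sub B)) := by
  haveI := CurvLib.isNoetherian k (X := X)
  haveI := mono_psi0 hBf hcov hdisj
  have hOc := CurvLib.isCoh_of_isInvertible (CurvLib.isInvertible_structureModule (X := X))
  have hQ : ∀ J : X.IdealSheafData, Coh.IsCoh (ClSub.quotMod J) := fun J => CurvLib.isCoh_quotMod J
  have hIc : Coh.IsCoh (ClSub.idealMod (sub B)) := QCohLib.isCoh_kernel _ hOc (hQ _).1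
  obtain ⟨π⟩ := nonempty_coker_iso (sub B) (sub T)
  let S : ShortComplex X.Modules :=
    ShortComplex.mk (psi0 (sub B) T) (cokernel.π (psi0 (sub B) T) ≫ π.hom) (by rw [cokernel.condition_assoc, zero_comp])
  have hS : S.ShortExact :=
    { exact := ShortComplex.exact_of_iso (ShortComplex.isoMk (S₁ := ShortComplex.mk (psi0 (sub B) T)
          (cokernel.π (psi0 (sub B) T)) (cokernel.condition _)) (S₂ := S) (Iso.refl _) (Iso.refl _) π
          (by simp [S]) (by simp [S]))
        (ShortComplex.exact_cokernel (psi0 (sub B) T))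
      mono_f := inferInstanceAs (Mono (psi0 (sub B) T))
      epi_g := epi_comp _ _ }
  have hd0 : topologicalKrullDim (CohB1.support (ClSub.quotMod (sub B ⊔ sub T))) ≤ 0 := by
    refine dim_support_le_zero (hQ _).2 hdim fun η hη hs => ?_
    have h := CurvLib.support_quotMod_subset _ hs
    rw [Scheme.IdealSheafData.support_sup] at h
    exact hdisj η (mem_of_mem_closure hTf hη (support_sub T ▸ h.2)) (mem_of_mem_closure hBf hη (support_sub B ▸ h.1))
  have hlen := CurvLib.euler_eq_h0 (k := k) (hQ (sub B ⊔ sub T)) hd0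
  have e1 := CurvLib.euler_add_of_isCoh (k := k) hS hIc (hQ _) (hQ _)
  have e2 := CurvLib.euler_add_of_isCoh (k := k) (HilbPolyLib.shortExact_tensor hL hS)
    (HilbPolyLib.isCoh_tensor hL hIc) (HilbPolyLib.isCoh_tensor hL (hQ _)) (HilbPolyLib.isCoh_tensor hL (hQ _))
  have e3 := CurvLib.euler_add_of_isCoh (k := k) (CurvLib.idealSeq_shortExact (sub B)) hIc hOc (hQ _)
  have e4 := CurvLib.euler_add_of_isCoh (k := k)
    (HilbPolyLib.shortExact_tensor hL (CurvLib.idealSeq_shortExact (sub B)))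
    (HilbPolyLib.isCoh_tensor hL hIc) (HilbPolyLib.isCoh_tensor hL hOc) (HilbPolyLib.isCoh_tensor hL (hQ _))
  change Curv2.euler k X (ClSub.quotMod (sub T)) =
    Curv2.euler k X (ClSub.idealMod (sub B)) + Curv2.euler k X (ClSub.quotMod (sub B ⊔ sub T)) at e1
  change Curv2.euler k X (CohB1.tensorMod L (ClSub.quotMod (sub T))) =
    Curv2.euler k X (CohB1.tensorMod L (ClSub.idealMod (sub B))) +
      Curv2.euler k X (CohB1.tensorMod L (ClSub.quotMod (sub B ⊔ sub T))) at e2
  rw [euler_tensor_of_dim_zero k hL (hQ _) hd0, hlen] at e2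
  rw [hlen] at e1
  exact ⟨e2, e1, e4, e3⟩

/-- Adjunction: `deg ω|_Z = -2 χ(O_Z) + length (Z ∩ Z')`. -/
theorem adjunction (hdim : topologicalKrullDim X = ((1 : ℕ) : WithBot ℕ∞)) {ω : X.Modules}
    (hω : PicF.IsInvertible ω)
    (hχ : Curv2.euler k X ω = - Curv2.euler k X (Coh.structureModule X))
    (hdual : ∀ G : X.Modules, Coh.IsQCoh G → Nonempty ((G ⟶ ω) ≃ₗ[k] Module.Dual k (Coh.HH X G 1)))
    {B T : Set X} (hBm : ∀ η ∈ B, IsMaxPt η) (hTm : ∀ η ∈ T, IsMaxPt η) (hdisj : ∀ η ∈ T, η ∉ B)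
    (hcov : ∀ η : X, IsMaxPt η → η ∈ B ∨ η ∈ T) :
    delta k ω (ClSub.quotMod (sub T)) = -2 * Curv2.euler k X (ClSub.quotMod (sub T)) +
      Module.finrank k (Coh.HH X (ClSub.quotMod (sub B ⊔ sub T)) 0) := by
  haveI := CurvLib.isNoetherian k (X := X)
  have hBf : B.Finite := finite_maxPts.subset hBm
  have hTf : T.Finite := finite_maxPts.subset hTm
  have hdisj' : ∀ η ∈ B, η ∉ T := fun η hη h => hdisj η h hη
  have hd1 : topologicalKrullDim X ≤ 1 := by simpa using hdim.le
  have a1 := defect_le k hdim hω hdual hBf hTm hdisj hcov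
  have a2 := defect_le k hdim hω hdual hTf hBm hdisj' fun η hη => (hcov η hη).symm
  obtain ⟨e1, e2, e3, e4⟩ := euler_split k hd1 hω hBf hTf hdisj hcov
  obtain ⟨f1, f2, f3, f4⟩ := euler_split k hd1 hω hTf hBf hdisj' fun η hη => (hcov η hη).symm
  have hω' := CurvLib.euler_congr (k := k) (KFlatLib.tensSwap (Coh.structureModule X) ω ≪≫ KFlatLib.tensUnitIso ω :
      CohB1.tensorMod ω (Coh.structureModule X) ≅ ω)
  rw [hχ] at hω'
  rw [sup_comm] at f1 f2
  rw [delta]
  omega

end Adj

end NefH1Lib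

end
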