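import Groth.Agent.NefH1Lib.Adjunction.GorCurve
import Groth.Agent.H0Lib.Field
import Groth.Agent.S7642

/-!
# The field of functions of a connected subcurve and its action
-/

set_option autoImplicit false
set_option linter.style.haveILetI false
set_option linter.unusedSectionVars false
set_option maxHeartbeats 1000000
set_option backward.isDefEq.respectTransparency false
set_option backward.isDefEq.respectTransparency.types false

universe u

open CategoryTheory CategoryTheory.Limits AlgebraicGeometry TopologicalSpace Opposite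
open NefH1Lib.Subcurve

noncomputable section

namespace NefH1Lib

namespace Adj

/-- A ring map out of a field is injective. -/
theorem injective_of_isField {A B : Type u} [CommRing A] [CommRing B] [Nontrivial B] (h : IsField A) (φ : A →+* B) :
    Function.Injective φ := by
  refine (injective_iff_map_eq_zero φ).mpr fun a ha => ?_
  by_contra hne
  obtain ⟨b, hb⟩ := h.mul_inv_cancel hne
  have := congrArg φ hb
  rw [map_mul, ha, zero_mul, map_one] at this
  exact zero_ne_one this

variable (k : Type u) [Field k] {X : Scheme.{u}} [X.Over (Spec (CommRingCat.of k))]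
  [IsProper (X ↘ Spec (CommRingCat.of k))]

/-- `H⁰(O_Z)` as the ring of global functions. -/
theorem finrank_fn (J : X.IdealSheafData) :
    letI := fnModule k J
    Module.finrank k (Coh.HH X (ClSub.quotMod J) 0) = Module.finrank k Γ(J.subscheme, ⊤) := by
  letI := fnModule k J
  letI := GenusZeroLib.kmod k (X := X) (ClSub.quotMod J)
  refine (GenusZeroLib.e0k k (ClSub.quotMod J)).finrank_eq.trans (LinearEquiv.finrank_eq ?_)
  exact { AddEquiv.refl (Γ(ClSub.quotMod J, ⊤)) with map_smul' := fun c x => rfl }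

/-- constants on a closed subscheme -/
abbrev fnHom (J : X.IdealSheafData) : k →+* Γ(J.subscheme, ⊤) :=
  Coh.toGlobal (J.subschemeι ≫ (X ↘ Spec (CommRingCat.of k)))

theorem finite_fn (J : X.IdealSheafData) : @Module.Finite k Γ(J.subscheme, ⊤) _ _ (fnModule k J) := by
  haveI := CurvLib.isNoetherian k (X := X)
  haveI := CurvLib.finite_HH (k := k) (CurvLib.isCoh_quotMod J) 0
  letI := fnModule k J
  letI := GenusZeroLib.kmod k (X := X) (ClSub.quotMod J)
  let e : Γ(ClSub.quotMod J, ⊤) ≃ₗ[k] Γ(J.subscheme, ⊤) :=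
    { AddEquiv.refl (Γ(ClSub.quotMod J, ⊤)) with map_smul' := fun c x => rfl }
  exact Module.Finite.equiv ((GenusZeroLib.e0k k (ClSub.quotMod J)).trans e)

include k in
/-- A connected reduced subscheme has a field of global functions. -/
theorem isField_fn (J : X.IdealSheafData) [IsReduced J.subscheme] [ConnectedSpace J.subscheme] :
    IsField Γ(J.subscheme, ⊤) := by
  letI : Algebra k Γ(J.subscheme, ⊤) := (fnHom k J).toAlgebra
  haveI : Module.Finite k Γ(J.subscheme, ⊤) := finite_fn k J
  haveI : Algebra.IsIntegral k Γ(J.subscheme, ⊤) := Algebra.IsIntegral.of_finite k _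
  obtain ⟨x⟩ : Nonempty J.subscheme := inferInstance
  haveI : Nontrivial Γ(J.subscheme, ⊤) := (J.subscheme.presheaf.germ ⊤ x trivial).hom.domain_nontrivial
  exact ⟨exists_pair_ne _, mul_comm, fun {a} ha => (H0Lib.isUnit_of_isIntegral
    H0Lib.eq_zero_or_one_of_idempotent (Algebra.IsIntegral.isIntegral (R := k) a) ha).exists_right_inv⟩

variable {ω : X.Modules}
  (hdual : ∀ G : X.Modules, Coh.IsQCoh G → Nonempty ((G ⟶ ω) ≃ₗ[k] Module.Dual k (Coh.HH X G 1)))

include hdual in
/-- The first cohomology of a connected subcurve is zero or at least the degree of its field of functions. -/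
theorem h1_ge (J : X.IdealSheafData) [IsReduced J.subscheme] [ConnectedSpace J.subscheme] :
    Module.finrank k (Coh.HH X (ClSub.quotMod J) 1) = 0 ∨
      Module.finrank k (Coh.HH X (ClSub.quotMod J) 0) ≤ Module.finrank k (Coh.HH X (ClSub.quotMod J) 1) := by
  haveI := CurvLib.isNoetherian k (X := X)
  rw [or_iff_not_imp_left]
  intro hne
  have hQ := CurvLib.isCoh_quotMod J
  obtain ⟨E⟩ := hdual _ hQ.1
  haveI := CurvLib.finite_HH (k := k) hQ 1
  haveI : Module.Finite k (ClSub.quotMod J ⟶ ω) := Module.Finite.equiv E.symm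
  have hdim : Module.finrank k (ClSub.quotMod J ⟶ ω) = Module.finrank k (Coh.HH X (ClSub.quotMod J) 1) :=
    E.finrank_eq.trans Subspace.dual_finrank_eq
  haveI : Nontrivial (ClSub.quotMod J ⟶ ω) := Module.nontrivial_of_finrank_pos (R := k) (by omega)
  obtain ⟨φ, hφ⟩ := exists_ne (0 : ClSub.quotMod J ⟶ ω)
  rw [← hdim, finrank_fn k J]
  letI := fnModule k J
  let i := J.subschemeι
  letI : J.subscheme.Over (Spec (CommRingCat.of k)) := ⟨i ≫ (X ↘ Spec (CommRingCat.of k))⟩
  haveI : i.IsOver (Spec (CommRingCat.of k)) := ⟨rfl⟩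
  haveI := KLin.linear_pushforward (A := k) i
  let P := Coh.structureModule J.subscheme
  let sm : Γ(J.subscheme, ⊤) →ₗ[k] (P ⟶ P) :=
    { toFun := fun f => Formal.smulModΓ P f
      map_add' := fun a b => KLin.smulModΓ_add P a b
      map_smul' := fun c f => by
        rw [RingHom.id_apply, KLin.smul_def]
        exact KLin.smulModΓ_mul P _ f }
  let Φ : Γ(J.subscheme, ⊤) →ₗ[k] (ClSub.quotMod J ⟶ ω) :=
    (Linear.rightComp k (ClSub.quotMod J) φ).comp (((Scheme.Modules.pushforward i).mapLinearMap k).comp sm)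
  refine LinearMap.finrank_le_finrank_of_injective (f := Φ) ((injective_iff_map_eq_zero Φ).mpr fun f hf => ?_)
  by_contra hf0
  obtain ⟨g, hg⟩ := (isField_fn k J).mul_inv_cancel hf0
  have h1 : (Scheme.Modules.pushforward i).map (Formal.smulModΓ P f) ≫ φ = 0 := hf
  have h2 : (Scheme.Modules.pushforward i).map (Formal.smulModΓ P g) ≫
      (Scheme.Modules.pushforward i).map (Formal.smulModΓ P f) = 𝟙 _ := by
    rw [← Functor.map_comp, ← KLin.smulModΓ_mul]
    refine Eq.trans ?_ ((Scheme.Modules.pushforward i).map_id P)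
    refine congrArg _ ?_
    exact ((congrArg (Formal.smulModΓ P) ((mul_comm g f).trans hg)).trans (KLin.smulModΓ_one P))
  refine hφ ?_
  rw [← Category.id_comp φ, ← h2, Category.assoc, h1, comp_zero]

/-- A nonempty intersection with the rest has length a positive multiple of the degree of the field. -/
theorem len_facts (J J' : X.IdealSheafData) [IsReduced J.subscheme] [ConnectedSpace J.subscheme]
    (hne : Nonempty (J ⊔ J').subscheme) :
    ∃ n : ℕ, 1 ≤ n ∧ Module.finrank k (Coh.HH X (ClSub.quotMod (J ⊔ J')) 0) =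
        n * Module.finrank k (Coh.HH X (ClSub.quotMod J) 0) ∧
      (n = 1 ↔ Function.Bijective (Scheme.IdealSheafData.inclusion (le_sup_left : J ≤ J ⊔ J')).appTop) := by
  let S := (J ⊔ J').subscheme
  let a := Scheme.IdealSheafData.inclusion (le_sup_left : J ≤ J ⊔ J')
  haveI : IsDomain Γ(J.subscheme, ⊤) := (isField_fn k J).isDomain
  letI : Field Γ(J.subscheme, ⊤) := (isField_fn k J).toField
  obtain ⟨s⟩ := hne
  haveI : Nontrivial Γ(S, ⊤) := (S.presheaf.germ ⊤ s trivial).hom.domain_nontrivial
  letI : Algebra Γ(J.subscheme, ⊤) Γ(S, ⊤) := a.appTop.hom.toAlgebra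
  letI : Algebra k Γ(J.subscheme, ⊤) := (fnHom k J).toAlgebra
  letI : Algebra k Γ(S, ⊤) := (fnHom k (J ⊔ J')).toAlgebra
  haveI : IsScalarTower k Γ(J.subscheme, ⊤) Γ(S, ⊤) := IsScalarTower.of_algebraMap_eq fun c => by
    show fnHom k (J ⊔ J') c = a.appTop (fnHom k J c)
    rw [fnHom, fnHom, Coh.toGlobal, Coh.toGlobal,
      ← Scheme.IdealSheafData.inclusion_subschemeι (le_sup_left : J ≤ J ⊔ J'), Category.assoc, Scheme.Hom.comp_appTop]
    rfl
  haveI : Module.Finite k Γ(S, ⊤) := finite_fn k (J ⊔ J')
  haveI : Module.Finite k Γ(J.subscheme, ⊤) := finite_fn k J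
  haveI : Module.Finite Γ(J.subscheme, ⊤) Γ(S, ⊤) := Module.Finite.of_restrictScalars_finite k _ _
  refine ⟨Module.finrank Γ(J.subscheme, ⊤) Γ(S, ⊤), Module.finrank_pos, ?_, ?_⟩
  · rw [finrank_fn k J, finrank_fn k (J ⊔ J')]
    exact ((Module.finrank_mul_finrank k Γ(J.subscheme, ⊤) Γ(S, ⊤)).symm.trans (mul_comm _ _))
  · constructor
    · intro h1
      refine ⟨a.appTop.hom.injective, fun z => ?_⟩
      obtain ⟨c, hc⟩ := (finrank_eq_one_iff_of_nonzero' (1 : Γ(S, ⊤)) one_ne_zero).mp h1 z
      exact ⟨c, ((mul_one _).symm.trans hc : a.appTop c = z)⟩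
    · intro hb
      rw [← LinearEquiv.finrank_eq (LinearEquiv.ofBijective (Algebra.linearMap Γ(J.subscheme, ⊤) Γ(S, ⊤)) hb),
        Module.finrank_self]

include k in
/-- A reduced point seen through a bijection on functions. -/
theorem point_of_bijective (J J' : X.IdealSheafData) [IsReduced J.subscheme] [ConnectedSpace J.subscheme]
    (hne : Nonempty (J ⊔ J').subscheme) (hd : topologicalKrullDim (J ⊔ J').subscheme ≤ 0)
    (hb : Function.Bijective (Scheme.IdealSheafData.inclusion (le_sup_left : J ≤ J ⊔ J')).appTop) :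
    Subsingleton (J ⊔ J').subscheme ∧ IsReduced (J ⊔ J').subscheme ∧ ∀ c : (J ⊔ J').subscheme,
      Function.Bijective (J.subscheme.evaluation ⊤
        ((Scheme.IdealSheafData.inclusion (le_sup_left : J ≤ J ⊔ J')).base c) trivial) := by
  let S := (J ⊔ J').subscheme
  let a := Scheme.IdealSheafData.inclusion (le_sup_left : J ≤ J ⊔ J')
  let f := (J ⊔ J').subschemeι ≫ (X ↘ Spec (CommRingCat.of k))
  haveI : IsLocallyArtinian (Spec (CommRingCat.of k)) := Scheme.isLocallyArtinianScheme_Spec.mpr inferInstance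
  haveI : IsLocallyNoetherian S := LocallyOfFiniteType.isLocallyNoetherian f
  haveI : IsLocallyArtinian S := .of_topologicalKrullDim_le_zero hd
  haveI : CompactSpace S := QuasiCompact.compactSpace_of_compactSpace f
  haveI : DiscreteTopology S := inferInstance
  haveI : Finite S := finite_of_compact_of_discrete
  haveI : LocallyQuasiFinite f := LocallyQuasiFinite.of_finite_preimage_singleton f fun y => Set.toFinite _
  haveI : IsFinite f := IsFinite.of_locallyQuasiFinite f
  haveI : IsAffine S := isAffine_of_isAffineHom f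
  have hF : IsField Γ(S, ⊤) := MulEquiv.isField (isField_fn k J) (RingEquiv.ofBijective a.appTop.hom hb).symm.toMulEquiv
  haveI : Subsingleton (Spec Γ(S, ⊤)) := ⟨fun a b => PrimeSpectrum.ext (by
    letI := hF.toField
    rw [Ideal.eq_bot_of_prime a.asIdeal, Ideal.eq_bot_of_prime b.asIdeal])⟩
  haveI hsub : Subsingleton S := S.isoSpec.hom.homeomorph.injective.subsingleton
  haveI : IsDomain Γ(S, ⊤) := hF.isDomain
  refine ⟨hsub, isReduced_of_isOpenImmersion S.isoSpec.hom, fun c => ?_⟩
  have hevS : Function.Surjective (S.evaluation ⊤ c trivial) := by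
    letI := S.presheaf.algebra_section_stalk (⟨c, trivial⟩ : (⊤ : S.Opens))
    haveI := (isAffineOpen_top S).isLocalization_stalk ⟨c, trivial⟩
    have hs : Function.Surjective (algebraMap Γ(S, ⊤) (S.presheaf.stalk c)) := fun z => by
      obtain ⟨⟨r, m⟩, hm⟩ := IsLocalization.surj ((isAffineOpen_top S).primeIdealOf ⟨c, trivial⟩).asIdeal.primeCompl z
      obtain ⟨t, ht⟩ := hF.mul_inv_cancel (fun h0 : (m : Γ(S, ⊤)) = 0 => m.2 (h0 ▸ Ideal.zero_mem _))
      refine ⟨r * t, ?_⟩
      rw [map_mul, ← hm, mul_assoc, ← map_mul, ht, map_one, mul_one]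
    exact (Scheme.residue_surjective S c).comp hs
  have hnat : ∀ g : Γ(J.subscheme, ⊤), a.residueFieldMap c (J.subscheme.evaluation ⊤ (a.base c) trivial g) =
      S.evaluation ⊤ c trivial (a.appTop g) := fun g => by
    have h := ConcreteCategory.congr_hom (Scheme.residue_residueFieldMap a c) (J.subscheme.presheaf.germ ⊤ (a.base c) trivial g)
    refine h.trans ?_
    show S.residue c (a.stalkMap c (J.subscheme.presheaf.germ ⊤ (a c) trivial g)) = _
    rw [Scheme.Hom.germ_stalkMap_apply]
    rfl
  refine ⟨injective_of_isField (isField_fn k J) (J.subscheme.evaluation ⊤ (a.base c) trivial).hom, fun z => ?_⟩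
  obtain ⟨w, hw⟩ := hevS (a.residueFieldMap c z)
  obtain ⟨g, rfl⟩ := hb.2 w
  exact ⟨g, (a.residueFieldMap c).hom.injective ((hnat g).trans hw)⟩

include k in
/-- Conversely. -/
theorem bijective_of_point (J J' : X.IdealSheafData) [IsReduced J.subscheme] [ConnectedSpace J.subscheme]
    (hne : Nonempty (J ⊔ J').subscheme) (hsub : Subsingleton (J ⊔ J').subscheme) (hr : IsReduced (J ⊔ J').subscheme)
    (hev : ∀ c : (J ⊔ J').subscheme, Function.Bijective (J.subscheme.evaluation ⊤
        ((Scheme.IdealSheafData.inclusion (le_sup_left : J ≤ J ⊔ J')).base c) trivial)) :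
    Function.Bijective (Scheme.IdealSheafData.inclusion (le_sup_left : J ≤ J ⊔ J')).appTop := by
  let S := (J ⊔ J').subscheme
  let a := Scheme.IdealSheafData.inclusion (le_sup_left : J ≤ J ⊔ J')
  haveI : IsClosedImmersion (a ≫ J.subschemeι) := by
    rw [Scheme.IdealSheafData.inclusion_subschemeι]; infer_instance
  haveI : IsClosedImmersion a := IsClosedImmersion.of_comp a J.subschemeι
  haveI : ConnectedSpace S :=
    { toPreconnectedSpace := ⟨Set.subsingleton_univ.isPreconnected⟩, toNonempty := hne }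
  haveI := hr
  obtain ⟨c⟩ := hne
  haveI : Nontrivial Γ(S, ⊤) := (S.presheaf.germ ⊤ c trivial).hom.domain_nontrivial
  refine ⟨injective_of_isField (isField_fn k J) a.appTop.hom, fun z => ?_⟩
  have hrs : Function.Surjective (a.residueFieldMap c) := fun w => by
    obtain ⟨w', rfl⟩ := Scheme.residue_surjective S c w
    obtain ⟨v, rfl⟩ := a.stalkMap_surjective c w'
    exact ⟨J.subscheme.residue _ v, ConcreteCategory.congr_hom (Scheme.residue_residueFieldMap a c) v⟩
  obtain ⟨w, hw⟩ := hrs (S.evaluation ⊤ c trivial z)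
  obtain ⟨g, rfl⟩ := (hev c).2 w
  refine ⟨g, injective_of_isField (isField_fn k (J ⊔ J')) (S.evaluation ⊤ c trivial).hom (Eq.trans ?_ hw)⟩
  have h := ConcreteCategory.congr_hom (Scheme.residue_residueFieldMap a c) (J.subscheme.presheaf.germ ⊤ (a.base c) trivial g)
  refine Eq.trans ?_ h.symm
  show _ = S.residue c (a.stalkMap c (J.subscheme.presheaf.germ ⊤ (a c) trivial g))
  rw [Scheme.Hom.germ_stalkMap_apply]
  rfl

end Adj

end NefH1Lib

end
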