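import Mathlib.Tactic

/-!
# Inequalities from balancedness
-/

namespace NefH1Lib

namespace Adj

variable {g l d w : ℤ} {c : ℤ} {κ : ℕ}

theorem bal_low (hg : 2 ≤ g) (hb : |2 * (2 * g - 2) * l - 2 * d * w| ≤ (2 * g - 2) * (κ : ℤ))
    (hd : c * (2 * g - 2) ≤ 2 * d) (hw : 0 ≤ w) : c * w - κ ≤ 2 * l := by
  have h1 := (abs_le.mp hb).1
  have h2 : (2 * g - 2) * (c * w - κ) ≤ (2 * g - 2) * (2 * l) := by
    nlinarith [mul_le_mul_of_nonneg_right hd hw]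
  exact le_of_mul_le_mul_left h2 (by omega)

theorem bal_low_strict (hg : 2 ≤ g) (hb : |2 * (2 * g - 2) * l - 2 * d * w| ≤ (2 * g - 2) * (κ : ℤ))
    (hd : c * (2 * g - 2) < 2 * d) (hw : 1 ≤ w) : c * w - κ < 2 * l := by
  have h1 := (abs_le.mp hb).1
  have h2 : (2 * g - 2) * (c * w - κ) < (2 * g - 2) * (2 * l) := by
    nlinarith [mul_lt_mul_of_pos_right hd (show (0 : ℤ) < w by omega)]
  exact lt_of_mul_lt_mul_left h2 (by omega)

theorem bal_zero (hg : 2 ≤ g) (hb : |2 * (2 * g - 2) * l - 2 * d * w| ≤ (2 * g - 2) * (κ : ℤ)) (hw : w = 0) :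
    -(κ : ℤ) ≤ 2 * l ∧ 2 * l ≤ κ := by
  subst hw
  obtain ⟨h1, h2⟩ := abs_le.mp hb
  exact ⟨by nlinarith, by nlinarith⟩

theorem bal_neg (hg : 2 ≤ g) (hb : |2 * (2 * g - 2) * l - 2 * d * w| ≤ (2 * g - 2) * (κ : ℤ)) (hκ : κ = 1)
    (hw : w = -1) (hd : g - 1 ≤ d) : l ≤ 0 ∧ (g - 1 < d → l < 0) := by
  subst hw hκ
  have h2 := (abs_le.mp hb).2
  push_cast at h2
  exact ⟨by nlinarith, fun hd' => by nlinarith⟩

end Adj

end NefH1Lib
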