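import Groth.Agent.NefH1Lib.Adjunction.FieldGenus
import Groth.Agent.AlgSpRegLib.ImageReduced
import Groth.Prelude.Def_Curv2

/-!
# Rational tails and bridges; nonnegativity of the dualizing degree
-/

set_option autoImplicit false
set_option linter.style.haveILetI false
set_option linter.unusedSectionVars false
set_option maxHeartbeats 1000000
set_option backward.isDefEq.respectTransparency false
set_option backward.isDefEq.respectTransparency.types false

universe u

open CategoryTheory CategoryTheory.Limits AlgebraicGeometry TopologicalSpace Opposite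
open DevissLib (St gm)
open NefH1Lib.Subcurve

noncomputable section

namespace NefH1Lib

namespace Adj

variable (k : Type u) [Field k] {X : Scheme.{u}} [X.Over (Spec (CommRingCat.of k))]
  [IsProper (X ↘ Spec (CommRingCat.of k))]

/-- `h⁰(O_Z)` -/
abbrev eJ (J : X.IdealSheafData) : ℕ := Module.finrank k (Coh.HH X (ClSub.quotMod J) 0)

/-- `h¹(O_Z)` -/
abbrev hJ (J : X.IdealSheafData) : ℕ := Module.finrank k (Coh.HH X (ClSub.quotMod J) 1)

theorem subsingleton_h1_subscheme_iff [IsReduced X] (hdim : topologicalKrullDim X = 1) (J : X.IdealSheafData) :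
    Subsingleton (Coh.HH J.subscheme (Coh.structureModule J.subscheme) 1) ↔ hJ k J = 0 := by
  haveI := CurvLib.isNoetherian k (X := X)
  have hd1 : topologicalKrullDim X = ((1 : ℕ) : WithBot ℕ∞) := by simpa using hdim
  letI : J.subscheme.Over (Spec (CommRingCat.of k)) := ⟨J.subschemeι ≫ (X ↘ Spec (CommRingCat.of k))⟩
  haveI : IsProper (J.subscheme ↘ Spec (CommRingCat.of k)) :=
    inferInstanceAs (IsProper (J.subschemeι ≫ (X ↘ Spec (CommRingCat.of k))))
  haveI := CurvLib.isNoetherian k (X := J.subscheme)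
  haveI := CurvLib.finite_HH (k := k)
    (CurvLib.isCoh_of_isInvertible (CurvLib.isInvertible_structureModule (X := J.subscheme))) 1
  show _ ↔ Module.finrank k (Coh.HH X (ClSub.quotMod J) 1) = 0
  have e := (euler_subscheme k hd1.le J).2
  rw [← e]
  exact (Module.finrank_zero_iff (R := k)).symm

/-- The point data of a tail. -/
def TailData (J J' : X.IdealSheafData) : Prop :=
  Nonempty (J ⊔ J').subscheme ∧ Subsingleton (J ⊔ J').subscheme ∧ IsReduced (J ⊔ J').subscheme ∧
    ∀ c : (J ⊔ J').subscheme, Function.Bijective (J.subscheme.evaluation ⊤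
      ((Scheme.IdealSheafData.inclusion (le_sup_left : J ≤ J ⊔ J')).base c) trivial)

theorem isRationalTail_iff (C : Set X) (hC : C ∈ irreducibleComponents (X : Type u)) :
    Curv2.IsRationalTail X C hC ↔
      ((Scheme.Opens.ι (⟨Cᶜ, (isClosed_of_mem_irreducibleComponents C hC).isOpen_compl⟩ : X.Opens)).ker.support :
        Set X).Nonempty ∧
      TailData (Scheme.IdealSheafData.vanishingIdeal ⟨C, isClosed_of_mem_irreducibleComponents C hC⟩)
        (Scheme.Opens.ι (⟨Cᶜ, (isClosed_of_mem_irreducibleComponents C hC).isOpen_compl⟩ : X.Opens)).ker ∧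
      Subsingleton (Coh.HH (Scheme.IdealSheafData.vanishingIdeal
        ⟨C, isClosed_of_mem_irreducibleComponents C hC⟩).subscheme (Coh.structureModule _) 1) :=
  ⟨fun ⟨a, b, c, d, e, f⟩ => ⟨a, ⟨b, c, d, e⟩, f⟩, fun ⟨a, ⟨b, c, d, e⟩, f⟩ => ⟨a, b, c, d, e, f⟩⟩

variable [IsReduced X] [ConnectedSpace X] (hdim : topologicalKrullDim X = 1)

include hdim

theorem eJ_pos (J : X.IdealSheafData) [ConnectedSpace J.subscheme] : 0 < eJ k J := h0_quot_pos k J

theorem kJ_pos (J : X.IdealSheafData) (hr : IsReduced J.subscheme) (hc : ConnectedSpace J.subscheme)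
    (hd : topologicalKrullDim J.subscheme = 1) (hne : J ≠ ⊥) : 1 ≤ kJ k J := by
  obtain ⟨T, B, hTm, hBm, hTne, hdisj, hcov, rfl, hv⟩ := exists_sub k hdim J hr hc hd
  refine kJ_pos_of_compl k hdim hTm hBm hTne hdisj hcov hv fun hB => hne ?_
  have hT : T = {η : X | IsMaxPt η} := Set.ext fun η =>
    ⟨hTm η, fun h => (hcov η h).resolve_left (by simp [hB])⟩
  rw [hT, sub_all]

theorem kJ_multiple (J : X.IdealSheafData) (hr : IsReduced J.subscheme) (hc : ConnectedSpace J.subscheme)
    (hd : topologicalKrullDim J.subscheme = 1) (hne : J ≠ ⊥) :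
    ∃ n : ℕ, 1 ≤ n ∧ kJ k J = n * eJ k J ∧ (n = 1 ↔ Function.Bijective
      (Scheme.IdealSheafData.inclusion (le_sup_left : J ≤ J ⊔ Scheme.IdealSheafData.vanishingIdeal
        ⟨closure ((J.support : Set X)ᶜ), isClosed_closure⟩)).appTop) := by
  haveI := CurvLib.isNoetherian k (X := X)
  haveI := hr
  haveI := hc
  refine len_facts k J _ ?_
  by_contra hempty
  have hk := kJ_pos k hdim J hr hc hd hne
  let S := J ⊔ Scheme.IdealSheafData.vanishingIdeal ⟨closure ((J.support : Set X)ᶜ), isClosed_closure⟩
  haveI : IsEmpty S.subscheme := not_nonempty_iff.mp hempty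
  have hs : (S.support : Set X) = ∅ := by rw [← S.range_subschemeι]; exact Set.range_eq_empty _
  haveI := CurveDualModLib.subsingleton_H0_of_isZero (M := ClSub.quotMod S)
    (DevissLib.isZero_of_support_empty (Set.subset_empty_iff.mp (hs ▸ CurvLib.support_quotMod_subset S)))
  have h0 : kJ k J = 0 := Module.finrank_zero_of_subsingleton
  omega

variable {ω : X.Modules} (hω : PicF.IsInvertible ω)
  (hdual : ∀ G : X.Modules, Coh.IsQCoh G → Nonempty ((G ⟶ ω) ≃ₗ[k] Module.Dual k (Coh.HH X G 1)))
  (hχ : Curv2.euler k X ω = - Curv2.euler k X (Coh.structureModule X))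

include hω hdual hχ

/-- `deg ω|_Z = -2 h⁰(O_Z) + 2 h¹(O_Z) + k_Z`. -/
theorem deg_sub (J : X.IdealSheafData) (hr : IsReduced J.subscheme) (hc : ConnectedSpace J.subscheme)
    (hd : topologicalKrullDim J.subscheme = 1) :
    dJ k ω J = -2 * (eJ k J : ℤ) + 2 * (hJ k J : ℤ) + kJ k J := by
  haveI := CurvLib.isNoetherian k (X := X)
  have hd1 : topologicalKrullDim X = ((1 : ℕ) : WithBot ℕ∞) := by simpa using hdim
  obtain ⟨T, B, hTm, hBm, -, hdisj, hcov, rfl, hv⟩ := exists_sub k hdim J hr hc hd
  rw [dJ, kJ, deg_subscheme k hω, adjunction k hd1 hω hχ hdual hBm hTm hdisj hcov, hv, sup_comm,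
    CurvLib.euler_eq_sub (k := k) (M := ClSub.quotMod (sub T))
      fun n hn => CurvLib.subsingleton_HH_of_dim_le _ hd1.le n (by omega)]
  ring

/-- For a proper subcurve without tail-type contact the degree bounds the genus. -/
theorem proper_bound (J : X.IdealSheafData) (hr : IsReduced J.subscheme) (hc : ConnectedSpace J.subscheme)
    (hd : topologicalKrullDim J.subscheme = 1) (hne : J ≠ ⊥) :
    (1 ≤ hJ k J → (hJ k J : ℤ) ≤ dJ k ω J) ∧ (hJ k J = 0 → ∃ n : ℕ, 1 ≤ n ∧
      dJ k ω J = ((n : ℤ) - 2) * eJ k J ∧ (n = 1 ↔ Function.Bijective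
      (Scheme.IdealSheafData.inclusion (le_sup_left : J ≤ J ⊔ Scheme.IdealSheafData.vanishingIdeal
        ⟨closure ((J.support : Set X)ᶜ), isClosed_closure⟩)).appTop)) := by
  haveI := hr
  haveI := hc
  have hw := deg_sub k hdim hω hdual hχ J hr hc hd
  obtain ⟨n, hn, hkn, hbij⟩ := kJ_multiple k hdim J hr hc hd hne
  refine ⟨fun h1 => ?_, fun h0 => ⟨n, hn, ?_, hbij⟩⟩
  · have he : eJ k J ≤ hJ k J := by
      refine (h1_ge k hdual J).resolve_left ?_
      show hJ k J ≠ 0
      omega
    have : eJ k J ≤ n * eJ k J := Nat.le_mul_of_pos_left _ hn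
    rw [hw, hkn]
    omega
  · rw [hw, hkn, h0]
    push_cast
    ring

omit hω hdual hχ in
include k in
/-- Components and their complements. -/
theorem component_facts (C : Set X) (hC : C ∈ irreducibleComponents (X : Type u)) :
    let J := Scheme.IdealSheafData.vanishingIdeal ⟨C, isClosed_of_mem_irreducibleComponents C hC⟩
    IsReduced J.subscheme ∧ ConnectedSpace J.subscheme ∧ topologicalKrullDim J.subscheme = 1 ∧
      (Scheme.Opens.ι (⟨Cᶜ, (isClosed_of_mem_irreducibleComponents C hC).isOpen_compl⟩ : X.Opens)).ker =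
        Scheme.IdealSheafData.vanishingIdeal ⟨closure ((J.support : Set X)ᶜ), isClosed_closure⟩ := by
  intro J
  have hcl := isClosed_of_mem_irreducibleComponents C hC
  haveI : IsIntegral J.subscheme := AmpleDevLib.isIntegral_vanishingIdeal ⟨C, hcl⟩ hC.1
  refine ⟨inferInstance, inferInstance, ?_, ?_⟩
  · refine (J.subschemeι.isEmbedding.toHomeomorph.trans (Homeomorph.setCongr
      (J.range_subschemeι.trans (Scheme.IdealSheafData.coe_support_vanishingIdeal _)))).isHomeomorph.topologicalKrullDim_eq.trans ?_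
    simpa using equidim k (X := X) hdim C hC
  · rw [AlgSpRegLib.ker_eq_vanishingIdeal]
    refine congrArg _ (Closeds.ext ?_)
    rw [Closeds.coe_closure, Scheme.Opens.range_ι]
    show closure (Cᶜ) = closure ((J.support : Set X)ᶜ)
    rw [Scheme.IdealSheafData.coe_support_vanishingIdeal]
    rfl

omit hω hdual hχ in
include k in
theorem component_ne_bot_iff (C : Set X) (hC : C ∈ irreducibleComponents (X : Type u)) :
    (((Scheme.Opens.ι (⟨Cᶜ, (isClosed_of_mem_irreducibleComponents C hC).isOpen_compl⟩ : X.Opens)).ker.support :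
      Set X).Nonempty ↔
      Scheme.IdealSheafData.vanishingIdeal ⟨C, isClosed_of_mem_irreducibleComponents C hC⟩ ≠ ⊥) := by
  obtain ⟨-, -, -, he⟩ := component_facts k hdim C hC
  rw [he, Scheme.IdealSheafData.coe_support_vanishingIdeal]
  show (closure _).Nonempty ↔ _
  rw [closure_nonempty_iff, Set.nonempty_compl, Scheme.IdealSheafData.coe_support_vanishingIdeal]
  refine not_congr ⟨fun h => ?_, fun h => ?_⟩
  · rw [show (⟨C, isClosed_of_mem_irreducibleComponents C hC⟩ : Closeds X) = ⊤ from Closeds.ext h,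
      Scheme.IdealSheafData.vanishingIdeal_top, Scheme.nilradical_eq_bot]
  · have := congrArg (fun I : X.IdealSheafData => (I.support : Set X)) h
    simpa [Scheme.IdealSheafData.coe_support_vanishingIdeal, Scheme.IdealSheafData.support_bot] using this

/-- Rational tails have negative degree. -/
theorem deg_tail_neg (C : Set X) (hC : C ∈ irreducibleComponents (X : Type u)) (h : Curv2.IsRationalTail X C hC) :
    dJ k ω (Scheme.IdealSheafData.vanishingIdeal ⟨C, isClosed_of_mem_irreducibleComponents C hC⟩) < 0 := by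
  obtain ⟨hne, hT, hg⟩ := (isRationalTail_iff C hC).mp h
  obtain ⟨hr, hc, hd, he⟩ := component_facts k hdim C hC
  haveI := hr
  haveI := hc
  have hne' := (component_ne_bot_iff k hdim C hC).mp hne
  obtain ⟨n, hn, hw, hbij⟩ := (proper_bound k hdim hω hdual hχ _ hr hc hd hne').2
    ((subsingleton_h1_subscheme_iff k hdim _).mp hg)
  rw [he] at hT
  obtain ⟨hS, hsub, hred, hev⟩ := hT
  have h1 : n = 1 := hbij.mpr (bijective_of_point k _ _ hS hsub hred hev)
  subst h1
  have := eJ_pos k hdim (Scheme.IdealSheafData.vanishingIdeal ⟨C, isClosed_of_mem_irreducibleComponents C hC⟩)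
  rw [hw]
  push_cast
  linarith

/-- Rational bridges have degree zero. -/
theorem deg_bridge_zero (C : Set X) (hC : C ∈ irreducibleComponents (X : Type u))
    (h : Curv2.IsRationalBridge k X C hC) :
    dJ k ω (Scheme.IdealSheafData.vanishingIdeal ⟨C, isClosed_of_mem_irreducibleComponents C hC⟩) = 0 := by
  obtain ⟨-, hlen, hg⟩ := h
  obtain ⟨hr, hc, hd, he⟩ := component_facts k hdim C hC
  have hw := deg_sub k hdim hω hdual hχ _ hr hc hd
  have hg' := (subsingleton_h1_subscheme_iff k hdim _).mp hg
  revert hlen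
  rw [he]
  intro hlen
  rw [hw, hg', show kJ k (Scheme.IdealSheafData.vanishingIdeal ⟨C, isClosed_of_mem_irreducibleComponents C hC⟩) =
    2 * eJ k (Scheme.IdealSheafData.vanishingIdeal ⟨C, isClosed_of_mem_irreducibleComponents C hC⟩) from hlen]
  push_cast
  ring

/-- A proper component which is not a tail has nonnegative degree; positive if it is no bridge either. -/
theorem component_nonneg (C : Set X) (hC : C ∈ irreducibleComponents (X : Type u))
    (hne : Scheme.IdealSheafData.vanishingIdeal ⟨C, isClosed_of_mem_irreducibleComponents C hC⟩ ≠ ⊥)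
    (hnt : ¬ Curv2.IsRationalTail X C hC) :
    0 ≤ dJ k ω (Scheme.IdealSheafData.vanishingIdeal ⟨C, isClosed_of_mem_irreducibleComponents C hC⟩) ∧
      (¬ Curv2.IsRationalBridge k X C hC →
        0 < dJ k ω (Scheme.IdealSheafData.vanishingIdeal ⟨C, isClosed_of_mem_irreducibleComponents C hC⟩)) := by
  haveI := CurvLib.isNoetherian k (X := X)
  obtain ⟨hr, hc, hd, he⟩ := component_facts k hdim C hC
  haveI := hr
  haveI := hc
  obtain ⟨hpos, hzero⟩ := proper_bound k hdim hω hdual hχ _ hr hc hd hne
  by_cases h0 : hJ k (Scheme.IdealSheafData.vanishingIdeal ⟨C, isClosed_of_mem_irreducibleComponents C hC⟩) = 0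
  swap
  · have := hpos (by omega)
    exact ⟨by omega, fun _ => by omega⟩
  obtain ⟨n, hn, hw, hbij⟩ := hzero h0
  have he0 := eJ_pos k hdim (Scheme.IdealSheafData.vanishingIdeal ⟨C, isClosed_of_mem_irreducibleComponents C hC⟩)
  have hn1 : n ≠ 1 := fun h1 => by
    refine hnt ?_
    have hgen := (subsingleton_h1_subscheme_iff k hdim _).mpr h0
    have hnem := (component_ne_bot_iff k hdim C hC).mpr hne
    rw [isRationalTail_iff]
    refine ⟨hnem, ?_, hgen⟩
    rw [he]
    obtain ⟨m, hm, hkm, -⟩ := kJ_multiple k hdim _ hr hc hd hne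
    let J := Scheme.IdealSheafData.vanishingIdeal ⟨C, isClosed_of_mem_irreducibleComponents C hC⟩
    let S := J ⊔ Scheme.IdealSheafData.vanishingIdeal ⟨closure ((J.support : Set X)ᶜ), isClosed_closure⟩
    have hne2 : Nonempty S.subscheme := by
      by_contra hempty
      haveI : IsEmpty S.subscheme := not_nonempty_iff.mp hempty
      have hs : (S.support : Set X) = ∅ := by rw [← S.range_subschemeι]; exact Set.range_eq_empty _
      haveI := CurveDualModLib.subsingleton_H0_of_isZero (M := ClSub.quotMod S)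
        (DevissLib.isZero_of_support_empty (Set.subset_empty_iff.mp (hs ▸ CurvLib.support_quotMod_subset S)))
      have hk0 : kJ k J = 0 := Module.finrank_zero_of_subsingleton
      have := kJ_pos k hdim J hr hc hd hne
      omega
    have hdS : topologicalKrullDim S.subscheme ≤ 0 := by
      refine (S.subschemeι.isEmbedding.toHomeomorph.trans (Homeomorph.setCongr
        S.range_subschemeι)).isHomeomorph.topologicalKrullDim_eq.le.trans ?_
      refine CurvLib.dim_le_zero_of_no_maximal hdim.le S.support.isClosed fun x hx => ?_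
      obtain ⟨η, hη, hηx⟩ := exists_maxPt x
      refine ⟨η, hηx, fun heq => ?_⟩
      subst heq
      rw [Scheme.IdealSheafData.support_sup] at hx
      obtain ⟨h1', h2'⟩ := hx
      rw [SetLike.mem_coe] at h1' h2'
      have hηC : η ∈ (J.support : Set X) := h1'
      have hηc : η ∈ closure ((J.support : Set X)ᶜ) := by
        have h3 : η ∈ ((Scheme.IdealSheafData.vanishingIdeal
          ⟨closure ((J.support : Set X)ᶜ), isClosed_closure⟩).support : Set X) := h2'
        rw [Scheme.IdealSheafData.coe_support_vanishingIdeal] at h3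
        exact h3
      obtain ⟨T, B, hTm, hBm, -, hdisj, hcov, hJT, hv⟩ := exists_sub k hdim J hr hc hd
      have h4 : η ∈ closure T := by rw [← support_sub, ← hJT]; exact hηC
      have hηT : η ∈ T := mem_of_mem_closure (finite_maxPts.subset hTm) hη h4
      have h5 : η ∈ closure B := by
        rw [← support_sub, ← hv, Scheme.IdealSheafData.coe_support_vanishingIdeal]
        exact hηc
      exact hdisj η hηT (mem_of_mem_closure (finite_maxPts.subset hBm) hη h5)
    obtain ⟨hs1, hs2, hs3⟩ := point_of_bijective k J _ hne2 hdS (hbij.mp h1)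
    exact ⟨hne2, hs1, hs2, hs3⟩
  have hnge : (2 : ℤ) ≤ n := by omega
  refine ⟨by rw [hw]; exact mul_nonneg (by omega) (by positivity), fun hnb => ?_⟩
  have hn2 : n ≠ 2 := fun h2 => hnb (by
    unfold Curv2.IsRationalBridge
    refine ⟨(component_ne_bot_iff k hdim C hC).mpr hne, ?_⟩
    rw [he]
    refine ⟨?_, (subsingleton_h1_subscheme_iff k hdim _).mpr h0⟩
    have h3 := deg_sub k hdim hω hdual hχ _ hr hc hd
    rw [hw, h0, h2] at h3
    push_cast at h3
    show kJ k _ = 2 * eJ k _
    omega)
  rw [hw]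
  exact mul_pos (by omega) (by exact_mod_cast he0)

omit hdual hχ in
/-- Degrees on unions of components from the components. -/
theorem delta_nonneg {T : Set X} (hTm : ∀ η ∈ T, IsMaxPt η)
    (h : ∀ η ∈ T, 0 ≤ dJ k ω (sub ({η} : Set X))) :
    0 ≤ delta k ω (ClSub.quotMod (sub T)) ∧
      (T.Nonempty → (∀ η ∈ T, 0 < dJ k ω (sub ({η} : Set X))) → 0 < delta k ω (ClSub.quotMod (sub T))) := by
  haveI := CurvLib.isNoetherian k (X := X)
  induction T, (finite_maxPts.subset hTm : T.Finite) using Set.Finite.induction_on with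
  | empty =>
    refine ⟨le_of_eq (delta_eq_zero k hω (CurvLib.isCoh_quotMod _)
      ((dim_mono (CurvLib.support_quotMod_subset _)).trans ?_)).symm, fun hne => absurd rfl hne.ne_empty⟩
    rw [support_sub, closure_empty]
    exact topologicalKrullDim_zero_of_discreteTopology _
  | @insert η S hηS _ ih =>
    have hS : ∀ a ∈ S, IsMaxPt a := fun a ha => hTm a (Set.mem_insert_of_mem η ha)
    obtain ⟨i1, i2⟩ := ih hS fun a ha => h a (Set.mem_insert_of_mem η ha)
    have hu := delta_union k hdim.le hω (A := {η}) (B := S) (fun a ha => ha ▸ hTm η (Set.mem_insert η S)) hS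
      (fun a ha => by rw [Set.mem_singleton_iff.mp ha]; exact hηS)
    rw [← Set.insert_eq, ← deg_subscheme k hω (sub ({η} : Set X))] at hu
    have h1 : 0 ≤ dJ k ω (sub ({η} : Set X)) := h η (Set.mem_insert η S)
    rw [hu]
    refine ⟨add_nonneg h1 i1, fun _ hp => add_pos_of_pos_of_nonneg (hp η (Set.mem_insert η S)) i1⟩

/-- Without tails every proper subcurve's degree bounds its genus. -/
theorem deg_ge_h1 (hnt : ∀ (C : Set X) (hC : C ∈ irreducibleComponents (X : Type u)), ¬ Curv2.IsRationalTail X C hC)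
    (J : X.IdealSheafData) (hr : IsReduced J.subscheme) (hc : ConnectedSpace J.subscheme)
    (hd : topologicalKrullDim J.subscheme = 1) (hne : J ≠ ⊥) : (hJ k J : ℤ) ≤ dJ k ω J := by
  by_cases h0 : hJ k J = 0
  swap
  · exact (proper_bound k hdim hω hdual hχ J hr hc hd hne).1 (by omega)
  rw [h0]
  obtain ⟨T, B, hTm, -, -, -, hcov, rfl, -⟩ := exists_sub k hdim J hr hc hd
  rw [dJ, deg_subscheme k hω]
  refine (delta_nonneg k hdim hω hTm fun η hη => ?_).1
  refine (component_nonneg k hdim hω hdual hχ (closure {η}) (closure_mem_components (hTm η hη)) ?_ (hnt _ _)).1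
  intro hbot
  refine hne ?_
  have hs : closure ({η} : Set X) = Set.univ := by
    have := congrArg (fun I : X.IdealSheafData => (I.support : Set X)) hbot
    simpa [Scheme.IdealSheafData.coe_support_vanishingIdeal, Scheme.IdealSheafData.support_bot] using this
  have hT : T = {η : X | IsMaxPt η} := Set.ext fun a => ⟨hTm a, fun ha => by
    have h2 : a ∈ ({η} : Set X) := mem_of_mem_closure (Set.finite_singleton η) ha (hs ▸ Set.mem_univ a)
    rw [Set.mem_singleton_iff.mp h2]
    exact hη⟩
  rw [hT, sub_all]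

end Adj

end NefH1Lib

end
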