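import Groth.Agent.NefH1Lib.Adjunction.Tails

/-!
# Consequences of having no rational tail
-/

set_option autoImplicit false
set_option linter.style.haveILetI false
set_option linter.unusedSectionVars false
set_option maxHeartbeats 1000000
set_option backward.isDefEq.respectTransparency false
set_option backward.isDefEq.respectTransparency.types false

universe u

open CategoryTheory CategoryTheory.Limits AlgebraicGeometry TopologicalSpace Opposite
open DevissLib (St gm)
open NefH1Lib.Subcurve

noncomputable section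

namespace NefH1Lib

namespace Adj

variable (k : Type u) [Field k] {X : Scheme.{u}} [X.Over (Spec (CommRingCat.of k))]
  [IsProper (X ↘ Spec (CommRingCat.of k))] [IsReduced X]

include k in
/-- Homomorphisms on a union of components vanish if they do on its connected pieces. -/
theorem hom_zero_of_pieces (hd : topologicalKrullDim X ≤ 1) {ω : X.Modules} {S : Set X}
    (hp : ∀ T : Set X, T ⊆ S → ConnectedSpace (sub T).subscheme → ∀ φ : ClSub.quotMod (sub T) ⟶ ω, φ = 0)
    (hSm : ∀ η ∈ S, IsMaxPt η) : ∀ φ : ClSub.quotMod (sub S) ⟶ ω, φ = 0 := by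
  haveI := CurvLib.isNoetherian k (X := X)
  suffices H : ∀ (n : ℕ) (T : Set X), T ⊆ S → T.ncard = n → ∀ φ : ClSub.quotMod (sub T) ⟶ ω, φ = 0 from
    H _ S subset_rfl rfl
  intro n
  induction n using Nat.strong_induction_on with
  | _ n ih =>
  intro T hTS hn φ
  have hTm : ∀ η ∈ T, IsMaxPt η := fun η h => hSm η (hTS h)
  have hTf : T.Finite := finite_maxPts.subset hTm
  let i := (sub T).subschemeι
  rcases isEmpty_or_nonempty (sub T).subscheme with hem | hne
  · refine (DevissLib.isZero_of_support_empty (Set.subset_empty_iff.mp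
      ((CurvLib.support_quotMod_subset (sub T)).trans ?_))).eq_of_src φ 0
    rw [← (sub T).range_subschemeι, Set.range_eq_empty]
  by_cases hpre : PreconnectedSpace (sub T).subscheme
  · exact hp T hTS { toPreconnectedSpace := hpre, toNonempty := hne } φ
  rw [preconnectedSpace_iff_clopen] at hpre
  push Not at hpre
  obtain ⟨b, hb, hb1, hb2⟩ := hpre
  let A : Set X := {η ∈ T | ∃ z ∈ b, i z = η}
  let B : Set X := {η ∈ T | ∃ z ∉ b, i z = η}
  have hA : closure A ⊆ i '' b := closure_minimal (fun η ⟨_, z, hz, he⟩ => ⟨z, hz, he⟩)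
    (i.isClosedEmbedding.isClosedMap _ hb.isClosed)
  have hB : closure B ⊆ i '' bᶜ := closure_minimal (fun η ⟨_, z, hz, he⟩ => ⟨z, hz, he⟩)
    (i.isClosedEmbedding.isClosedMap _ hb.compl.isClosed)
  have hAB : ∀ y ∈ closure A, y ∉ closure B := fun y hy hy' => by
    obtain ⟨z, hz, rfl⟩ := hA hy
    obtain ⟨z', hz', he⟩ := hB hy'
    exact hz' (i.isClosedEmbedding.injective he ▸ hz)
  have hTAB : ∀ η ∈ T, η ∈ A ∨ η ∈ B := fun η hη => by
    obtain ⟨z, rfl⟩ := ((sub T).range_subschemeι.ge (mem_sub hη) : η ∈ Set.range i)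
    by_cases hz : z ∈ b
    · exact Or.inl ⟨hη, z, hz, rfl⟩
    · exact Or.inr ⟨hη, z, hz, rfl⟩
  have hmax := exists_maxPt_sub T hTf hTm
  have hmem : ∀ y : (sub T).subscheme, IsMaxPt (i y) → i y ∈ T := fun y hy =>
    mem_of_mem_closure hTf hy (support_sub T ▸ (sub T).range_subschemeι.le ⟨y, rfl⟩)
  have hAsub : A ⊂ T := by
    refine ⟨fun η h => h.1, fun h => ?_⟩
    obtain ⟨y, hy⟩ := (Set.ne_univ_iff_exists_notMem b).mp hb2
    obtain ⟨y', hy', hsp⟩ := hmax y
    obtain ⟨-, z, hz, he⟩ := h (hmem y' hy')
    rw [i.isClosedEmbedding.injective he] at hz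
    exact hy (hsp.mem_closed hb.isClosed hz)
  have hBsub : B ⊂ T := by
    refine ⟨fun η h => h.1, fun h => ?_⟩
    obtain ⟨y, hy⟩ := hb1
    obtain ⟨y', hy', hsp⟩ := hmax y
    obtain ⟨-, z, hz, he⟩ := h (hmem y' hy')
    rw [i.isClosedEmbedding.injective he] at hz
    exact hz (hsp.mem_open hb.isOpen hy)
  have ihA := ih _ (hn ▸ Set.ncard_lt_ncard hAsub hTf) A (hAsub.subset.trans hTS) rfl
  have ihB := ih _ (hn ▸ Set.ncard_lt_ncard hBsub hTf) B (hBsub.subset.trans hTS) rfl
  have hle : ∀ {U : Set X}, U ⊆ T → sub T ≤ sub U := fun {U} hU =>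
    (Scheme.IdealSheafData.le_support_iff_le_vanishingIdeal).mp (by
      intro a ha
      show a ∈ ((sub T).support : Set X)
      rw [support_sub]
      exact closure_mono hU ha)
  obtain ⟨r, -, hre⟩ := exists_quot_map (hle hAsub.subset)
  obtain ⟨q, -, hqe⟩ := exists_quot_map (hle hBsub.subset)
  haveI := hre
  haveI := hqe
  let c := kernel.ι r ≫ q
  have hKinj : ∀ η, Function.Injective ((St η).map (kernel.ι r)).hom := fun η =>
    (ModuleCat.mono_iff_injective ((St η).map (kernel.ι r))).mp inferInstance
  have hinj : ∀ (U : Set X) (p : ClSub.quotMod (sub T) ⟶ ClSub.quotMod (sub U)) [Epi p] (η : X),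
      IsMaxPt η → η ∈ U → Function.Injective ((St η).map p).hom := by
    intro U p _ η hη hU
    obtain ⟨v, hv⟩ := exists_gen_quot (sub T) η
    refine injective_of_cyclic (isField_stalk hη) v hv _ fun h0 => ?_
    haveI := nontrivial_quot (X := X) (mem_sub hU)
    obtain ⟨a, ha⟩ := exists_ne (0 : (St η).obj (ClSub.quotMod (sub U)))
    obtain ⟨a', rfl⟩ := (ModuleCat.epi_iff_surjective ((St η).map p)).mp inferInstance a
    exact ha (LinearMap.congr_fun h0 a')
  haveI : Mono c := by
    refine mono_of_detected c (detected_of_mono (kernel.ι r) (detected_quot k hTf hTm)) fun η hη => ?_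
    by_cases hηB : η ∈ B
    · rw [Functor.map_comp, ModuleCat.hom_comp]
      exact (hinj B q η hη hηB).comp (hKinj η)
    · intro a b' _
      refine hKinj η ?_
      by_cases hηA : η ∈ A
      · refine hinj A r η hη hηA ?_
        have h0 : ∀ w, ((St η).map r).hom (((St η).map (kernel.ι r)).hom w) = 0 := fun w => by
          rw [← LinearMap.comp_apply, ← ModuleCat.hom_comp, ← Functor.map_comp, kernel.condition, Functor.map_zero]
          rfl
        exact (h0 a).trans (h0 b').symm
      · haveI := subsingleton_quot (notMem_sub hTf hη fun h => (hTAB η h).elim hηA hηB)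
        exact Subsingleton.elim _ _
  haveI : Epi c := by
    refine Preadditive.epi_of_cancel_zero c fun {G} g hg => eq_zero_of_stalks' g fun y => LinearMap.ext fun a => ?_
    obtain ⟨a', rfl⟩ := (ModuleCat.epi_iff_surjective ((St y).map q)).mp inferInstance a
    by_cases hy : y ∈ closure B
    · haveI := subsingleton_quot (J := sub A) (x := y) (fun h => hAB y (support_sub A ▸ h) hy)
      let Sr : ShortComplex X.Modules := ShortComplex.mk (kernel.ι r) r (kernel.condition r)
      haveI : Subsingleton ((Sr.map (St y)).X₃ : Type u) :=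
        show Subsingleton ((St y).obj (ClSub.quotMod (sub A))) from inferInstance
      obtain ⟨w, rfl⟩ := (ShortComplex.moduleCat_exact_iff (Sr.map (St y))).mp
        ((ShortComplex.exact_of_f_is_kernel Sr (kernelIsKernel r)).map (St y)) a' (Subsingleton.elim _ _)
      have h2 := congrArg (fun f => ((St y).map f).hom w) hg
      simp only [c, Functor.map_comp, Functor.map_zero, ModuleCat.hom_comp, LinearMap.comp_apply] at h2
      exact h2.trans (by simp)
    · haveI := subsingleton_quot (J := sub B) (x := y) (fun h => hy (support_sub B ▸ h))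
      rw [Subsingleton.elim (((St y).map q).hom a') 0, map_zero]
      rfl
  haveI : IsIso c := isIso_of_mono_of_epi c
  have h1 : kernel.ι r ≫ φ = 0 := by
    rw [← IsIso.hom_inv_id_assoc c (kernel.ι r ≫ φ), ihB (inv c ≫ kernel.ι r ≫ φ), comp_zero]
  rw [← Abelian.comp_epiDesc r φ h1, ihA (Abelian.epiDesc r φ h1), comp_zero]

variable [ConnectedSpace X] (hdim : topologicalKrullDim X = 1)
  (h0 : Module.finrank k (Coh.HH X (Coh.structureModule X) 0) = 1)
  {ω : X.Modules} (hω : PicF.IsInvertible ω)
  (hdual : ∀ G : X.Modules, Coh.IsQCoh G → Nonempty ((G ⟶ ω) ≃ₗ[k] Module.Dual k (Coh.HH X G 1)))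
  (hχ : Curv2.euler k X ω = - Curv2.euler k X (Coh.structureModule X))

include hdim h0 hω hdual hχ

theorem deg_dualizing' : Curv2.deg k X ω 1 = 2 * (Curv2.genus k X : ℤ) - 2 := by
  haveI := CurvLib.isNoetherian k (X := X)
  have hd1 : topologicalKrullDim X = ((1 : ℕ) : WithBot ℕ∞) := by simpa using hdim
  rw [Curv2.deg, hχ, CurvLib.euler_eq_sub (k := k) (M := Coh.structureModule X)
      fun n hn => CurvLib.subsingleton_HH_of_dim_le _ hd1.le n (by omega), h0, Curv2.genus]
  push_cast
  ring

variable (hnt : ∀ (C : Set X) (hC : C ∈ irreducibleComponents (X : Type u)), ¬ Curv2.IsRationalTail X C hC)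

include hnt

/-- Without tails in genus at least two, powers of `ω` are globally generated. -/
theorem gg_pow (hg : 2 ≤ Curv2.genus k X) (m : ℕ) (hm : 2 ≤ m) :
    Curv2.IsGloballyGenerated (CohB1.tensorPow ω m) := by
  haveI := CurvLib.isNoetherian k (X := X)
  refine globallyGenerated k hdim (AmpleThLib.tensorPow_isInvertible hω m) fun J hr hc hd => ?_
  change 2 * (gJ k J : ℤ) ≤ dJ k (CohB1.tensorPow ω m) J
  rw [deg_pow_sub k hdim hω m J hr hc hd]
  have hd1 : topologicalKrullDim X = ((1 : ℕ) : WithBot ℕ∞) := by simpa using hdim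
  have hgh : gJ k J = hJ k J := (euler_subscheme k hd1.le J).2
  rw [hgh]
  have hm' : (2 : ℤ) ≤ m := by exact_mod_cast hm
  by_cases hne : J = ⊥
  · subst hne
    rcases whole_or_meets k hdim ⊥ hr hc hd with ⟨e1, -, e3⟩ | hk
    · have hw : dJ k ω (⊥ : X.IdealSheafData) = 2 * (Curv2.genus k X : ℤ) - 2 :=
        (e3 ω hω).trans (deg_dualizing' k hdim h0 hω hdual hχ)
      rw [← hgh, e1, hw]
      have h2 : 2 * (2 * (Curv2.genus k X : ℤ) - 2) ≤ (m : ℤ) * (2 * (Curv2.genus k X : ℤ) - 2) :=
        mul_le_mul_of_nonneg_right hm' (by omega)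
      omega
    · exfalso
      obtain ⟨T, B, hTm, hBm, -, hdisj, hcov, hJ', hv⟩ := exists_sub k hdim (⊥ : X.IdealSheafData) hr hc hd
      have hT : B = ∅ := Set.eq_empty_of_forall_notMem fun η hη => by
        have h2 : η ∈ closure T := by
          rw [← support_sub, ← hJ', Scheme.IdealSheafData.support_bot]
          trivial
        exact hdisj η (mem_of_mem_closure (finite_maxPts.subset hTm) (hBm η hη) h2) hη
      have h0' : kJ k (⊥ : X.IdealSheafData) = 0 := by
        rw [kJ, hv, hJ', sup_comm]
        exact finrank_h0_bot_union k hT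
      omega
  · have h1 := deg_ge_h1 k hdim hω hdual hχ hnt J hr hc hd hne
    have h2 : 2 * dJ k ω J ≤ (m : ℤ) * dJ k ω J := mul_le_mul_of_nonneg_right hm' (by omega)
    omega

/-- Without tails in genus one, `ω` is trivial. -/
theorem trivial_of_genus_one (hg : Curv2.genus k X = 1) : Nonempty (ω ≅ Coh.structureModule X) := by
  haveI := CurvLib.isNoetherian k (X := X)
  haveI : EnoughInjectives X.Modules := IsGrothendieckAbelian.enoughInjectives.{u}
  haveI : HasExt.{u} X.Modules := hasExt_of_enoughInjectives.{u} X.Modules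
  have hωc := CurvLib.isCoh_of_isInvertible hω
  have hOc := CurvLib.isCoh_of_isInvertible (CurvLib.isInvertible_structureModule (X := X))
  obtain ⟨EO⟩ := hdual _ hOc.1
  haveI := CurvLib.finite_HH (k := k) hOc 1
  haveI : Nontrivial (Coh.structureModule X ⟶ ω) := Module.nontrivial_of_finrank_pos (R := k) (by
    rw [EO.finrank_eq, Subspace.dual_finrank_eq]
    show 0 < Curv2.genus k X
    omega)
  obtain ⟨s, hs⟩ := exists_ne (0 : Coh.structureModule X ⟶ ω)
  let M : Set X := {η | IsMaxPt η}
  let T : Set X := {η | IsMaxPt η ∧ ((St η).map s).hom ≠ 0}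
  have hTm : ∀ η ∈ T, IsMaxPt η := fun η h => h.1
  have hTf : T.Finite := finite_maxPts.subset hTm
  have hTM : T = M := by
    by_contra hne
    have hkill : ClSub.idealModι (sub T) ≫ s = 0 := by
      refine hom_eq_zero (k := k) (A := ClSub.idealMod (sub T)) hdim.le hωc hdual
        (QCohLib.isCoh_kernel _ hOc (CurvLib.isCoh_quotMod _).1) _ fun η hη => LinearMap.ext fun a => ?_
      by_cases hT : η ∈ T
      · haveI := subsingleton_ideal hη (mem_sub hT)
        rw [Subsingleton.elim a 0, map_zero, map_zero]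
      · rw [Functor.map_comp, ModuleCat.hom_comp, show ((St η).map s).hom = 0 from by_contra fun h => hT ⟨hη, h⟩,
          LinearMap.zero_comp]
    haveI : Epi (CurvLib.idealSeq (sub T)).g := (CurvLib.idealSeq_shortExact (sub T)).epi_g
    refine hs ?_
    rw [← (CurvLib.idealSeq_shortExact (sub T)).exact.g_desc s hkill]
    refine (congrArg _ (hom_zero_of_pieces k hdim.le (fun U hU hUc => ?_) hTm
      ((CurvLib.idealSeq_shortExact (sub T)).exact.desc s hkill))).trans comp_zero
    intro φ
    by_contra hφ
    haveI := hUc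
    haveI : IsReduced (sub U).subscheme := DevissLib.isReduced_vanishingIdeal' _
    have hUm : ∀ η ∈ U, IsMaxPt η := fun η h => hTm η (hU h)
    have hUne : U.Nonempty := by
      by_contra he
      rw [Set.not_nonempty_iff_eq_empty] at he
      obtain ⟨y⟩ : Nonempty (sub U).subscheme := inferInstance
      have h2 : (sub U).subschemeι y ∈ closure U := support_sub U ▸ (sub U).range_subschemeι.le ⟨y, rfl⟩
      have h3 : closure U = ∅ := by rw [he, closure_empty]
      exact (h3.le h2 : _ ∈ (∅ : Set X))
    have hUd : topologicalKrullDim (sub U).subscheme = 1 := by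
      refine le_antisymm ((NefH1Lib.topDim_le (sub U).subschemeι).trans hdim.le) ?_
      obtain ⟨η, hη⟩ := hUne
      have h2 := dim_mono ((closure_mono (Set.singleton_subset_iff.mpr hη)).trans
        ((support_sub U).ge.trans (sub U).range_subschemeι.ge) :
          closure ({η} : Set X) ⊆ Set.range (sub U).subschemeι)
      rw [equidim k hdim _ (closure_mem_components (hUm η hη))] at h2
      rw [(sub U).subschemeι.isClosedEmbedding.isEmbedding.toHomeomorph.isHomeomorph.topologicalKrullDim_eq]
      exact_mod_cast h2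
    have hUne' : sub U ≠ (⊥ : X.IdealSheafData) := fun hbot => hne (Set.Subset.antisymm (fun η h => h.1) fun η hη => by
      refine hU (mem_of_mem_closure (finite_maxPts.subset hUm) hη ?_)
      rw [← support_sub, hbot, Scheme.IdealSheafData.support_bot]
      trivial)
    have hh : 1 ≤ hJ k (sub U) := by
      obtain ⟨E⟩ := hdual _ (CurvLib.isCoh_quotMod (sub U)).1
      haveI := CurvLib.finite_HH (k := k) (CurvLib.isCoh_quotMod (sub U)) 1
      haveI : Module.Finite k (ClSub.quotMod (sub U) ⟶ ω) := Module.Finite.equiv E.symm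
      haveI : Nontrivial (ClSub.quotMod (sub U) ⟶ ω) := nontrivial_of_ne φ 0 hφ
      show 1 ≤ Module.finrank k (Coh.HH X (ClSub.quotMod (sub U)) 1)
      rw [← Subspace.dual_finrank_eq, ← E.finrank_eq]
      exact Module.finrank_pos
    have h1 := deg_ge_h1 k hdim hω hdual hχ hnt (sub U) inferInstance hUc hUd hUne'
    have hcomp : 0 ≤ delta k ω (ClSub.quotMod (sub (M \ U))) := by
      refine (delta_nonneg k hdim hω (fun η h => h.1) fun η hη => ?_).1
      refine (component_nonneg k hdim hω hdual hχ (closure {η}) (closure_mem_components hη.1) ?_ (hnt _ _)).1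
      intro hbot
      obtain ⟨ζ, hζ⟩ := hUne
      have hz : ζ ∈ closure ({η} : Set X) := by
        have h3 := congrArg (fun I : X.IdealSheafData => (I.support : Set X)) hbot
        simp [Scheme.IdealSheafData.coe_support_vanishingIdeal, Scheme.IdealSheafData.support_bot] at h3
        rw [h3]
        trivial
      have h4 := mem_of_mem_closure (Set.finite_singleton η) (hUm ζ hζ) hz
      exact hη.2 (Set.mem_singleton_iff.mp h4 ▸ hζ)
    have hu := delta_union k hdim.le hω (A := U) (B := M \ U) hUm (fun η h => h.1) fun η h h' => h'.2 h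
    rw [Set.union_diff_cancel (show U ⊆ M from fun η h => hUm η h), sub_all] at hu
    obtain ⟨eq⟩ := nonempty_quot_all (X := X) (T := M) fun η h => h
    have hw : delta k ω (ClSub.quotMod (⊥ : X.IdealSheafData)) = 0 := by
      rw [← sub_all, ← delta_congr k ω eq, ← deg_eq_delta, deg_dualizing' k hdim h0 hω hdual hχ, hg]
      norm_num
    rw [hw, ← deg_subscheme k hω (sub U)] at hu
    change 0 = dJ k ω (sub U) + _ at hu
    omega
  haveI : Mono s := by
    refine mono_of_detected s detected_structure fun η hη => ?_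
    obtain ⟨v, hv⟩ := exists_gen_one η
    exact injective_of_cyclic (isField_stalk hη) v hv _ (hTM.ge hη).2
  have hC : Coh.IsCoh (cokernel s) := QCohLib.isCoh_cokernel s hOc.1 hωc
  have hCd : topologicalKrullDim (CohB1.support (cokernel s)) ≤ 0 := by
    refine dim_support_le_zero hC.2 hdim.le fun η hη hm => ?_
    obtain ⟨z, hz⟩ := (DevissLib.mem_support_iff_nonzero _ η).mp hm
    obtain ⟨w, rfl⟩ := (ModuleCat.epi_iff_surjective ((St η).map (cokernel.π s))).mp inferInstance z
    obtain ⟨U, g, hηU, hg'⟩ := TwistLib.exists_genOn hω η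
    obtain ⟨r, hr⟩ := (hg'.genAt hηU).2 w
    obtain ⟨v, hv⟩ := exists_gen_one η
    obtain ⟨c, hc⟩ := (hg'.genAt hηU).2 (((St η).map s).hom v)
    dsimp only at hr hc
    have hc0 : c ≠ 0 := fun h => by
      rw [h, zero_smul] at hc
      exact (hTM.ge hη).2 (LinearMap.ext fun a => by
        obtain ⟨d, rfl⟩ := hv a
        rw [map_smul]
        exact (congrArg (d • ·) hc.symm).trans (smul_zero _))
    obtain ⟨c', hc'⟩ := (isField_stalk hη).mul_inv_cancel hc0
    refine hz ?_
    have hw : w = ((St η).map s).hom ((r * c') • v) := by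
      rw [map_smul]
      refine hr.symm.trans ((Eq.trans ?_ (congrArg ((r * c') • ·) hc)))
      rw [smul_smul, mul_assoc, mul_comm c', hc', mul_one]
    rw [hw, ← LinearMap.comp_apply, ← ModuleCat.hom_comp, ← Functor.map_comp, cokernel.condition, Functor.map_zero]
    rfl
  have hS : (ShortComplex.mk s (cokernel.π s) (cokernel.condition s)).ShortExact :=
    { exact := ShortComplex.exact_cokernel s
      mono_f := inferInstanceAs (Mono s)
      epi_g := inferInstanceAs (Epi (cokernel.π s)) }
  have hadd := CurvLib.euler_add_of_isCoh (k := k) hS hOc hωc hC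
  change Curv2.euler k X ω = Curv2.euler k X (Coh.structureModule X) + Curv2.euler k X (cokernel s) at hadd
  have hdeg := deg_dualizing' k hdim h0 hω hdual hχ
  rw [Curv2.deg, hg] at hdeg
  rw [CurvLib.euler_eq_h0 (k := k) hC hCd] at hadd
  haveI : Epi s := Abelian.epi_of_cokernel_π_eq_zero s ((CurvLib.isZero_of_h0 (k := k) hC hCd (by omega)).eq_of_tgt _ _)
  haveI : IsIso s := isIso_of_mono_of_epi s
  exact ⟨(asIso s).symm⟩

/-- Without tails and bridges in genus at least two, `ω` is ample. -/
theorem isAmple_of_no_bridge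
    (hnb : ∀ (C : Set X) (hC : C ∈ irreducibleComponents (X : Type u)), ¬ Curv2.IsRationalBridge k X C hC)
    (hg : 2 ≤ Curv2.genus k X) : CohB1.IsAmple ω := by
  haveI := CurvLib.isNoetherian k (X := X)
  have hpos : ∀ η, IsMaxPt η → 0 < dJ k ω (sub ({η} : Set X)) := fun η hη => by
    by_cases hbot : sub ({η} : Set X) = ⊥
    · rw [dJ, deg_subscheme k hω, hbot, ← sub_all]
      obtain ⟨eq⟩ := nonempty_quot_all (X := X) (T := {η : X | IsMaxPt η}) fun ζ h => h
      rw [← delta_congr k ω eq, ← deg_eq_delta, deg_dualizing' k hdim h0 hω hdual hχ]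
      omega
    · exact (component_nonneg k hdim hω hdual hχ (closure {η}) (closure_mem_components hη) hbot (hnt _ _)).2 (hnb _ _)
  refine isAmple_of_pos k hdim hω fun J hr hc hd => ?_
  obtain ⟨T, B, hTm, -, hTne, -, -, rfl, -⟩ := exists_sub k hdim J hr hc hd
  rw [dJ, deg_subscheme k hω]
  exact (delta_nonneg k hdim hω hTm fun η hη => (hpos η (hTm η hη)).le).2 hTne fun η hη => hpos η (hTm η hη)

end Adj

end NefH1Lib

end
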